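import Cfsg.Agent.Lib.L2B.Bas
import Cfsg.Agent.Lib.Ben.Fin

/-! The end game: strongly closed subgroups of class at most two. -/

set_option autoImplicit false
set_option linter.style.haveILetI false
set_option linter.unusedSectionVars false

namespace H25.L2B

open Subgroup H4.YM H4.TL Matrix MatrixGroups

variable {G : Type*} [Group G] [Finite G] {F : Type*} [Field F] [Finite F]

/-- a strongly closed subgroup of class at most two -/
theorem Hyp.lie_of_closed (X : Hyp G F) {S W : Subgroup G} (hS : Syl S X.L) (h16 : 16 ≤ Nat.card S)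
    (hW : W ≤ S) (h1 : W ≠ ⊥) (h2 : ∀ a ∈ W, ∀ b ∈ W, ∀ c ∈ W, cj c (a * b * a⁻¹ * b⁻¹) = a * b * a⁻¹ * b⁻¹)
    (hc : ∀ g ∈ X.L, ∀ w ∈ W, cj g w ∈ S → cj g w ∈ W) : Lie2 X.L := by
  refine H55.Ben.lst_of_closed X.simple ?_ (syl_iff.1 hS) h16 hW h1
    (fun a ha b hb c hc => cj_eq_iff.1 (h2 a ha b hb c hc)) hc
  by_contra k
  push Not at k
  exact X.Lna ⟨⟨fun a b => Subtype.ext (k a a.2 b b.2)⟩⟩

/-- the same with involutions only, for elementary abelian `W` -/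
theorem Hyp.lie_of_elem (X : Hyp G F) {S W : Subgroup G} (hS : Syl S X.L) (h16 : 16 ≤ Nat.card S)
    (hW : W ≤ S) (h1 : W ≠ ⊥) (h2 : ∀ a ∈ W, a * a = 1)
    (hc : ∀ g ∈ X.L, ∀ w ∈ W, cj g w ∈ S → cj g w ∈ W) : Lie2 X.L :=
  X.lie_of_closed hS h16 hW h1 (fun a ha b hb c _ => by
    rw [comm_of_sq (h2 a ha) (h2 b hb) (h2 _ (W.mul_mem ha hb))]
    simp [cj]) hc

end H25.L2B
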