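import Cfsg.Agent.Lib.L2B.Crd
import Cfsg.Agent.Lib.L2B.Q4B
import Cfsg.Agent.Lib.L2B.End
import Cfsg.Agent.Lib.L2B.Trp

/-! The double case with `Y` elementary abelian and `q = 4`. -/

set_option autoImplicit false
set_option linter.unusedSectionVars false

namespace H25.L2B

open Subgroup H4.YM H4.TL Matrix MatrixGroups CrdA

variable {G : Type*} [Group G] [Finite G] {F : Type*} [Field F] [Finite F]

namespace Q4E

/-- the elements commuting with `b` modulo `Z` -/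
def cs (Z : Subgroup G) (b : G) : Subgroup G where
  carrier := {a | a ∈ normalizer (Z : Set G) ∧ a * b * a⁻¹ * b⁻¹ ∈ Z}
  one_mem' := ⟨one_mem _, by simp⟩
  mul_mem' := fun {a c} h1 h2 => ⟨mul_mem h1.1 h2.1, by
    simpa [cj, mul_assoc] using mul_mem ((cj_mem_iff h1.1).2 h2.2) h1.2⟩
  inv_mem' := fun {a} h => ⟨inv_mem h.1, by
    simpa [cj, mul_assoc] using (cj_mem_iff (inv_mem h.1)).2 (inv_mem h.2)⟩

theorem comm_closure {Z : Subgroup G} {S : Set G} (hn : ∀ a ∈ S, a ∈ normalizer (Z : Set G))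
    (h : ∀ a ∈ S, ∀ b ∈ S, a * b * a⁻¹ * b⁻¹ ∈ Z) {a b : G} (ha : a ∈ closure S) (hb : b ∈ closure S) :
    a * b * a⁻¹ * b⁻¹ ∈ Z :=
  ((closure_le (cs Z b)).2 (fun c hc => ⟨hn c hc, by
    simpa [mul_assoc] using inv_mem ((closure_le (cs Z c)).2 (fun d hd => ⟨hn d hd, h d hd c hc⟩) hb).2⟩)
    ha).2

theorem comm_adj {Z Y : Subgroup G} {p q : G} (hY : Y ≤ normalizer (Z : Set G))
    (hp : p ∈ normalizer (Z : Set G)) (hq : q ∈ normalizer (Z : Set G))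
    (h0 : ∀ a ∈ Y, ∀ b ∈ Y, a * b = b * a) (h1 : ∀ a ∈ Y, cj p a * a⁻¹ ∈ Z) (h2 : ∀ a ∈ Y, cj q a * a⁻¹ ∈ Z)
    (h3 : cj p q * q⁻¹ ∈ Z) {a b : G} (ha : a ∈ adj (adj Y p) q) (hb : b ∈ adj (adj Y p) q) :
    a * b * a⁻¹ * b⁻¹ ∈ Z := by
  have le : adj (adj Y p) q ≤ closure (insert p (insert q (Y : Set G))) :=
    adj_le (adj_le (fun _ h => subset_closure (by simp [h])) (subset_closure (by simp)))
      (subset_closure (by simp))
  have sy : ∀ {a b : G}, cj a b * b⁻¹ ∈ Z → b * a * b⁻¹ * a⁻¹ ∈ Z := fun h => by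
    simpa [cj, mul_assoc] using inv_mem h
  refine comm_closure ?_ ?_ (le ha) (le hb)
  · rintro a (rfl | rfl | ha)
    exacts [hp, hq, hY ha]
  · rintro c (rfl | rfl | hc) d (rfl | rfl | hd)
    exacts [by simp, h3, h1 d hd, sy h3, by simp, h2 d hd, sy (h1 c hc), sy (h2 c hc), by simp [h0 c hc d hd]]

theorem dbl {A B : Subgroup G} (h : A ≤ B) {x : G} (hx : x ∈ B) (hn : x ∉ A) :
    2 * Nat.card A ≤ Nat.card B := by
  obtain ⟨m, e⟩ := card_dvd_of_le h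
  have h1 : Nat.card A ≠ Nat.card B := fun d => hn (eq_of_le_of_card_ge h d.ge ▸ hx)
  have h2 := Nat.card_pos (α := B)
  rw [e] at h1 h2 ⊢
  rcases m with _ | _ | m
  exacts [by simp at h2, by simp at h1, by nlinarith]

/-- congruence modulo `Y` -/
def Md (Y : Subgroup G) (a b : G) : Prop := a⁻¹ * b ∈ Y

section
variable {Y : Subgroup G} {a b c d : G}
theorem Md.refl (a : G) : Md Y a a := by simp [Md]
theorem Md.symm (h : Md Y a b) : Md Y b a := by simpa [Md] using inv_mem h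
theorem Md.trans (h : Md Y a b) (h' : Md Y b c) : Md Y a c := by simpa [Md, mul_assoc] using mul_mem h h'
theorem Md.mul (h : Md Y a b) (h' : Md Y c d) (hc : c ∈ normalizer (Y : Set G)) : Md Y (a * c) (b * d) := by
  simpa [Md, cj, mul_assoc] using mul_mem ((cj_mem_iff (inv_mem hc)).2 h) h'
theorem Md.cj (h : Md Y a b) (hc : c ∈ normalizer (Y : Set G)) : Md Y (cj c a) (cj c b) := by
  simpa [Md, H4.YM.cj, mul_assoc] using (cj_mem_iff hc).2 h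
theorem Md.right (a : G) (h : b ∈ Y) : Md Y a (a * b) := by simpa [Md] using h
theorem Md.ex (h : Md Y a b) : ∃ u ∈ Y, b = a * u := ⟨_, h, by simp⟩
theorem Md.mem (h : Md Y a b) (ha : a ∈ Y) : b ∈ Y := by simpa using mul_mem ha h
theorem Md.left (h : c ∈ Y) (ha : a ∈ normalizer (Y : Set G)) : Md Y a (c * a) := by
  simpa [Md, H4.YM.cj, mul_assoc] using (cj_mem_iff (inv_mem ha)).2 h
end

variable {X : Fr G F} {Y : Subgroup G} {b : G → F} {s : G} {τ : F ≃+* F} {y : F → G}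

local notation "f0" => X.t * s
local notation "MM" => adj Y (X.t * s)
local notation "SS" => adj (adj Y (X.t * s)) X.t

/-- the hypotheses -/
structure C4 (X : Fr G F) (Y : Subgroup G) (b : G → F) (s : G) (τ : F ≃+* F) (y : F → G) : Prop
    extends X.Crd Y b s τ y where
  four : Nat.card F = 4

namespace C4

variable (D : C4 X Y b s τ y)
include D

theorem q4 : X.Q4 τ s := ⟨D.four, D.τ1, X.sqΩ D.sΩ, T1_le D.sT, D.sφ⟩
theorem ss : s * s = 1 := D.q4.ee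
theorem ff : f0 * (f0) = 1 := f0_sq D.toDbl
theorem tN : X.t ∈ normalizer (Y : Set G) := D.toCrd.t_NY
theorem fN : f0 ∈ normalizer (Y : Set G) := D.toCrd.N1_NY (f0_N1 D.toDbl)
theorem sN : s ∈ normalizer (Y : Set G) := D.toCrd.N1_NY (X.T_le_N1 D.q4.eT)
theorem st : s * X.t = f0 := cj_eq_iff.1 D.q4.e_t
theorem tf : cj X.t (f0) = f0 := cj_comm.1 D.q4.tmul.e_t
theorem ts : cj X.t s = s := cj_comm.1 D.q4.e_t
theorem cY {u w : G} (hu : u ∈ Y) (hw : w ∈ Y) : cj u w = w := D.toCrd.pre.cjY hu hw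
theorem cardY : Nat.card Y = 16 := by rw [D.toCrd.cardY2, D.four]; rfl
theorem τa (a : F) : τ a = a * a := (aut_four D.four D.τ1).1 a
theorem t_el (a c : F) : cj X.t (X.v a * y c) = X.v (a + c) * y c := by
  rw [cj_mul, X.t_v, D.t_y, ← mul_assoc, ← X.v_add]
theorem f_el (a c : F) : cj (f0) (X.v a * y c) = X.v (a * a) * y (c * c) := by
  rw [cj_mul, f0_v D.toDbl, D.f_y, D.τa, D.τa]
theorem s_el (a c : F) : cj s (X.v a * y c) = X.v (a * a + c * c) * y (c * c) := by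
  rw [← X.ttu s, mul_cj, D.f_el, D.t_el]
theorem fY : f0 ∉ Y := fun h => by
  obtain ⟨ω, h1, -⟩ := exists_omega D.four
  have := D.f_el ω 0
  rw [D.cY h (D.toCrd.el_mem _ _), h1] at this
  simpa using (D.toCrd.inj this).1
theorem iM : Idx Y MM (f0) := idx_adj D.fY (mem_norm.1 D.fN) (D.ff ▸ one_mem _)
theorem tM : X.t ∉ MM := fun h => by
  rcases D.iM.cases h with h | ⟨u, hu, e⟩
  · exact D.toCrd.tY' h
  · rw [mul_assoc, left_eq_mul, mul_eq_one_iff_eq_inv] at e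
    exact D.nΩ s (e ▸ inv_mem hu) D.sΩ
theorem nM {g : G} (h1 : g ∈ normalizer (Y : Set G)) (h2 : Md Y (f0) (cj g (f0))) :
    ∀ k ∈ MM, cj g k ∈ MM :=
  adj_le_comap (fun k hk => le_adj (mem_norm.1 h1 k hk)) (D.iM.mem_iff.2 (Or.inr h2))
theorem iS : Idx MM SS X.t := idx_adj D.tM (D.nM D.tN (D.tf.symm ▸ Md.refl _)) (X.tt ▸ one_mem _)
theorem pgM : IsPGroup 2 MM := pg_idx D.iM D.pgY
theorem pgS : IsPGroup 2 SS := pg_idx D.iS D.pgM
theorem sS : s ∈ SS := by simpa only [X.ttu] using mul_mem D.iS.mem (D.iS.le D.iM.mem)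
theorem iT : Idx X.E X.T s := D.toPure.VR ▸ D.q4.iT
theorem cardT : Nat.card X.T = 16 := by rw [D.iT.card, X.card_E, D.four]
theorem TS : X.T ≤ SS := fun x hx => by
  have h : X.E ≤ SS := adj_le (D.AY.trans (D.iM.le.trans D.iS.le)) D.iS.mem
  rcases D.iT.cases hx with e | ⟨k, hk, rfl⟩
  exacts [h e, mul_mem D.sS (h hk)]
theorem SN : SS ≤ normalizer (Y : Set G) := adj_le (adj_le le_normalizer D.fN) D.tN
theorem cases {g : G} (hg : g ∈ SS) : g ∈ Y ∨ Md Y (f0) g ∨ Md Y X.t g ∨ Md Y s g := by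
  rcases D.iS.cases hg with e | ⟨k, e, rfl⟩ <;> rcases D.iM.cases e with e | ⟨u, hu, rfl⟩
  exacts [.inl e, .inr (.inl (.right _ hu)), .inr (.inr (.inl (.right _ e))),
    .inr (.inr (.inr (by rw [← mul_assoc, X.ttu]; exact .right _ hu)))]
theorem ab {g e : G} (hg : g ∈ SS) (he : e ∈ SS) : Md Y e (cj g e) := by
  have h : SS ≤ Y ⊔ X.T := adj_le (adj_le le_sup_left (mem_sup_right D.q4.tmul.eT))
    (mem_sup_right (X.R_le_T X.tR))
  simpa [Md, cj, mul_assoc] using D.toTow.S_comm (inv_mem (h he)) (h hg)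
theorem cjt {g : G} (h : Md Y X.t g) (gg : g * g = 1) : ∃ w ∈ Y, cj w X.t = g := by
  obtain ⟨u, hu, rfl⟩ := h.ex
  have := cj_eq_inv_of_sq X.tt gg
  rw [inv_eq_of_mul_eq_one_right (D.toCrd.sq hu)] at this
  exact D.tr u (D.cenY u hu (cj_comm.1 this))
theorem cjs {g : G} (h : Md Y s g) (gg : g * g = 1) : ∃ w ∈ Y, cj w s = g := by
  obtain ⟨u, hu, rfl⟩ := h.ex
  exact D.free s D.sT D.sφ u hu gg
theorem cjf {g : G} (h : Md Y (f0) g) (gg : g * g = 1) : ∃ w ∈ Y, cj w (f0) = g := by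
  obtain ⟨u, hu, rfl⟩ := h.ex
  exact D.free _ (f0_T1 D.toDbl) (f0_φ D.toDbl) u hu gg
theorem Ωt {g : G} (h : Md Y X.t g) (gg : g * g = 1) : X.Ω g :=
  let ⟨w, _, e⟩ := D.cjt h gg; e ▸ (X.Ω_cj w).2 X.Ω_t
theorem Ωs {g : G} (h : Md Y s g) (gg : g * g = 1) : X.Ω g :=
  let ⟨w, _, e⟩ := D.cjs h gg; e ▸ (X.Ω_cj w).2 D.sΩ
theorem card0 : Nat.card (Y ⊓ centralizer {f0} : Subgroup G) = 4 :=
  (D.toTow.free_card' (f0_N1 D.toDbl) D.ff (f0_v D.toDbl) D.τ1 rfl).trans D.four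
theorem cards : Nat.card (Y ⊓ centralizer {s} : Subgroup G) = 4 :=
  (D.toTow.free_card' (X.T_le_N1 D.q4.eT) D.ss (fun a => (D.q4.e_v a).trans (by rw [D.τa])) D.τ1
    rfl).trans D.four

/-- `Y` is weakly closed -/
theorem uniq {g : G} (hg : ∀ k ∈ Y, cj g k ∈ SS) : g ∈ normalizer (Y : Set G) := by
  refine mem_norm.2 fun k hk => by_contra fun n => ?_
  have h : ∀ k ∈ Y, cj g k ∈ Y ∨ Md Y (f0) (cj g k) := fun k hk => by
    have kk := cj_sq (g := g) (D.toCrd.sq hk)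
    rcases D.cases (hg k hk) with e | e | e | e
    exacts [.inl e, .inr e, absurd ((X.Ω_cj g).1 (D.Ωt e kk)) (D.nΩ k hk),
      absurd ((X.Ω_cj g).1 (D.Ωs e kk)) (D.nΩ k hk)]
  have e := (h k hk).resolve_left n
  have I : Idx (cm g Y ⊓ Y) (cm g Y) (cj g k) := ⟨inf_le_left, cj_mem_cm.2 hk, fun d => n d.2, fun x hx => by
    have := h _ (mem_cm.1 hx)
    rw [cj_inv_cj] at this
    exact this.imp (⟨hx, ·⟩) fun d => ⟨(cm g Y).mul_mem (inv_mem (cj_mem_cm.2 hk)) hx, e.symm.trans d⟩⟩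
  have h1 : cm g Y ⊓ Y ≤ Y ⊓ centralizer {f0} := fun x hx => ⟨hx.2, mem_cen.2 (cj_comm.1 (by
    obtain ⟨u, hu, d⟩ := e.symm.ex
    rw [d, mul_cj, D.cY hu hx.2, ← cj_inv_cj g x, cj_cj, D.cY hk (mem_cm.1 hx.1)]))⟩
  have h2 := card_le_of_le h1
  have h3 := I.card
  rw [card_cm, D.cardY] at h3
  rw [D.card0] at h2
  omega

theorem z0 : X.v 1 ∈ Y ⊓ centralizer {f0} :=
  ⟨vY D.toTow 1, mem_cen.2 (cj_comm.1 ((f0_v D.toDbl 1).trans (by rw [map_one])))⟩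
theorem y0 : y 1 ∈ Y ⊓ centralizer {f0} :=
  ⟨D.yY 1, mem_cen.2 (cj_comm.1 ((D.f_y 1).trans (by rw [map_one])))⟩
theorem comm0 {u : G} (hu : u ∈ Y) : cj (f0) u * u⁻¹ ∈ Y ⊓ centralizer {f0} := by
  have h := mem_norm.1 D.fN u hu
  refine ⟨Y.mul_mem h (inv_mem hu), mem_cen.2 (cj_comm.1 ?_)⟩
  rw [cj_mul, ← mul_cj, D.ff, one_cj, cj_inv, inv_eq_of_mul_eq_one_right (D.toCrd.sq h),
    inv_eq_of_mul_eq_one_right (D.toCrd.sq hu), D.Yc _ hu _ h]

theorem cenT {r : G} (hr : r ∈ X.T) (h : ∀ p ∈ X.T, cj p r = r) (r1 : r ≠ 1) (n : ¬ X.Ω r) : r = X.v 1 := by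
  have h1 := X.cen_T hr fun a => cj_comm.1 (h _ (X.E_le_T (X.iE.le (X.v_mem_V a))))
  rw [D.toPure.VR] at h1
  obtain ⟨a, rfl | rfl⟩ := X.mem_E.1 h1
  · have := X.v_inj ((D.q4.e_v a).symm.trans (h s D.q4.eT))
    rw [mul_left_cancel₀ (fun e => r1 (X.v_eq_one.2 e)) (this.trans (mul_one a).symm)]
  · exact absurd (D.tV a) n

/-- a group of order `64` and class two over `Y` has no conjugate of `t` -/
theorem noΩ {U : Subgroup G} (hU : IsPGroup 2 U) (hc : Nat.card U = 64) (hY : Y ≤ U)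
    (h1 : ∀ g ∈ U, ∀ z ∈ Y ⊓ centralizer {f0}, cj g z = z)
    (h2 : ∀ a ∈ U, ∀ b ∈ U, a * b * a⁻¹ * b⁻¹ ∈ Y ⊓ centralizer {f0}) {u : G} (hu : u ∈ U) : ¬ X.Ω u := by
  intro h
  have h3 := card_orb U u
  have h4 : (orb U u).ncard ≤ 4 := by
    rw [← D.card0, ← ncard_coset u]
    refine Set.ncard_le_ncard ?_
    rintro _ ⟨g, hg, rfl⟩
    exact ⟨_, h2 _ (inv_mem hu) g hg, by simp [cj, mul_assoc]⟩
  obtain ⟨c, -, h5⟩ := X.sylΩ h (pg_le hU (inf_le_left (b := centralizer {u}))) fun x hx => mem_cen.1 hx.2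
  have h6 := eq_of_le_of_card_ge h5 (by rw [card_cm, D.cardT]; nlinarith)
  have k : ∀ z ∈ Y ⊓ centralizer {f0}, z ≠ 1 → cj c⁻¹ z = X.v 1 := fun z hz z1 =>
    D.cenT (mem_cm.1 (h5 ⟨hY hz.1, mem_cen.2 (cj_comm.1 (h1 u hu z hz))⟩)) (fun p hp => by
      rw [← inv_cj_cj c p, cj_cj, h1 _ (h6.ge (cj_mem_cm.2 hp)).1 z hz]) (mt cj_eq_one.1 z1)
      fun d => D.nΩ z hz.1 ((X.Ω_cj _).1 d)
  have e := cj_inj _ ((k _ D.z0 (mt X.v_eq_one.1 one_ne_zero)).trans (k _ D.y0 fun d => by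
    simpa using (D.toCrd.inj (a := 0) (c := 1) (a' := 0) (c' := 0) (by rw [d, D.toCrd.pre.y_zero])).2).symm)
  simpa using (D.toCrd.inj (a := 1) (c := 0) (a' := 0) (c' := 1) (by
    rw [D.toCrd.pre.y_zero, X.v_zero, mul_one, one_mul, e])).1

theorem fin {S U : Subgroup G} (hS : Syl S ⊤) (hY : Y ≤ S) (hc : Nat.card S = 2 * Nat.card U)
    (hn : ∀ u ∈ U, ¬ X.Ω u) (h1 : ∀ g ∈ U, ∀ z ∈ Y ⊓ centralizer {f0}, cj g z = z)
    (h2 : ∀ a ∈ U, ∀ b ∈ U, a * b * a⁻¹ * b⁻¹ ∈ Y ⊓ centralizer {f0}) :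
    X.t ∉ X.L ∧ (S ⊓ X.L ≤ U → Lie2 X.L) := by
  refine ⟨fun h => let ⟨x, hx, e⟩ := X.thG h hS hc; hn x hx e, fun h => ?_⟩
  have h3 := card_le_of_le (le_inf hY D.YL)
  rw [D.cardY] at h3
  exact X.lie_of_closed (X.syl_L hS) h3 le_rfl (fun e => by simp [e] at h3)
    (fun a ha b hb c hc => h1 c (h hc) _ (h2 a (h ha) b (h hb))) fun _ _ _ _ e => e

theorem cenM : ∀ g ∈ MM, ∀ z ∈ Y ⊓ centralizer {f0}, cj g z = z := fun _ hg z hz =>
  mem_cen.1 (adj_le (L := centralizer {z}) (fun _ hu => mem_cen.2 (D.cY hu hz.1))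
    (mem_cen.2 (cj_comm.1 (mem_cen.1 hz.2))) hg)

theorem small (hS : Syl SS ⊤) : Lie2 X.L := by
  have hY := D.iM.le.trans D.iS.le
  by_cases h : X.Ω (f0)
  · have h3 := card_le_of_le (le_inf hY D.YL)
    rw [D.cardY] at h3
    refine X.lie_of_elem (X.syl_L hS) h3 (le_inf hY D.YL) (fun e => by simpa [e] using D.cardY)
      (fun _ => D.toCrd.sq) fun g _ w hw e => ?_
    have kk := cj_sq (g := g) (D.toCrd.sq hw)
    have n := mt (X.Ω_cj g).1 (D.nΩ w hw)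
    rcases D.cases e.1 with e | e | e | e
    exacts [e, let ⟨w, _, d⟩ := D.cjf e kk; absurd (d ▸ (X.Ω_cj w).2 h) n, absurd (D.Ωt e kk) n,
      absurd (D.Ωs e kk) n]
  have N : ∀ g ∈ MM, g ∈ normalizer ((Y ⊓ centralizer {f0} : Subgroup G) : Set G) := fun g hg =>
    mem_norm.2 fun z hz => (D.cenM g hg z hz).symm ▸ hz
  obtain ⟨h1, h2⟩ := D.fin hS hY D.iS.card (fun u hu d => by
    rcases D.iM.dich u hu with e | e
    · exact D.nΩ u e d
    · obtain ⟨w, -, rfl⟩ := D.cjf e (X.sqΩ d)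
      exact h ((X.Ω_cj w).1 d)) D.cenM fun a ha b hb =>
        comm_adj (fun g hg => N g (le_adj hg)) (N _ D.iM.mem) (one_mem _) D.Yc (fun _ => D.comm0)
          (fun a _ => by simp [cj]) (by simp [cj]) (le_adj ha) (le_adj hb)
  refine h2 fun g hg => (D.iS.cases hg.1).elim id fun ⟨k, hk, e⟩ => absurd ?_ h1
  have : MM ≤ X.L := adj_le D.YL ((X.mul_mem_L h1).2 (X.Ω_L D.sΩ).symm)
  exact (mul_mem_cancel_right (this hk)).1 (e ▸ hg.2)

end C4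

/-- an element swapping the cosets of `t` and `s` -/
structure Sw (X : Fr G F) (Y : Subgroup G) (b : G → F) (s : G) (τ : F ≃+* F) (y : F → G) (x : G) : Prop
    extends C4 X Y b s τ y where
  xN : x ∈ normalizer (Y : Set G)
  xt : Md Y s (cj x X.t)
  xx : x * x ∈ Y
  xf : cj x (X.t * s) = X.t * s

theorem C4.exists_sw (D : C4 X Y b s τ y) (hS : ¬ Syl SS ⊤) : ∃ x, Sw X Y b s τ y x := by
  obtain ⟨x, -, h1, h2, h3⟩ := exists_grow D.pgS le_top hS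
  have hY := D.iM.le.trans D.iS.le
  have xN := D.uniq fun k hk => mem_norm.1 h1 k (hY hk)
  have I := idx_adj h2 (mem_norm.1 h1) h3
  have P := pg_idx I D.pgS
  have m : ∀ {w}, w ∈ Y → w⁻¹ * x ∈ adj SS x ∧ w⁻¹ * x ∉ SS := fun hw =>
    ⟨mul_mem (inv_mem (I.le (hY hw))) I.mem, fun e => h2 ((mul_mem_cancel_left (inv_mem (hY hw))).1 e)⟩
  have nt : ¬ Md Y X.t (cj x X.t) := fun e => by
    obtain ⟨w, hw, d⟩ := D.cjt e (cj_sq X.tt)
    exact (m hw).2 (D.TS (X.infT P (D.TS.trans I.le) (m hw).1 (by rw [mul_cj, ← d, inv_cj_cj])))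
  have ns : ¬ Md Y s (cj x s) := fun e => by
    obtain ⟨w, hw, d⟩ := D.cjs e (cj_sq D.ss)
    have c1 := X.cardΩ D.sΩ (pg_le P (inf_le_left (b := centralizer {s}))) fun x hx => mem_cen.1 hx.2
    have c2 := dbl (inf_le_inf_right (centralizer {s}) I.le) (x := w⁻¹ * x)
      ⟨(m hw).1, mem_cen.2 (by rw [mul_cj, ← d, inv_cj_cj])⟩ fun e => (m hw).2 e.1
    have c3 := dbl (inf_le_inf_right (centralizer {s}) D.iS.le) (x := X.t)
      ⟨D.iS.mem, mem_cen.2 D.ts⟩ fun e => D.tM e.1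
    have c4 := dbl (inf_le_inf_right (centralizer {s}) D.iM.le) (x := f0)
      ⟨D.iM.mem, mem_cen.2 (by rw [mul_cj, cj_eq_iff.2 rfl, D.ts])⟩ fun e => D.fY e.1
    rw [D.cards] at c4
    rw [D.cardT] at c1
    omega
  have x2 : ∀ {e}, Md Y e (cj x X.t) → Md Y X.t (cj x e) := fun d =>
    (D.ab h3 D.iS.mem).trans (mul_cj x x _ ▸ (d.cj xN).symm)
  have xt : Md Y s (cj x X.t) := by
    rcases D.cases (mem_norm.1 h1 _ D.iS.mem) with e | e | e | e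
    · exact absurd ((X.Ω_cj x).2 X.Ω_t) (D.nΩ _ e)
    · have := e.mul (x2 e) D.tN
      rw [← cj_mul, X.ttu, mul_assoc, D.st, X.ttu] at this
      exact absurd this ns
    exacts [absurd e nt, e]
  have xf : Md Y (f0) (cj x (f0)) := by
    have := xt.mul (x2 xt) D.tN
    rwa [← cj_mul, D.st] at this
  have fx : ∀ {e}, Md Y e (x * x) → Md Y e (cj x e) := fun d =>
    d.trans (by simpa [cj, mul_assoc] using (d.cj xN).symm)
  obtain ⟨x', k1, k2, k3, k4⟩ : ∃ x', x' ∈ normalizer (Y : Set G) ∧ Md Y s (cj x' X.t) ∧ x' * x' ∈ Y ∧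
      Md Y (f0) (cj x' (f0)) := by
    rcases D.cases h3 with e | e | e | e
    · exact ⟨x, xN, xt, e, xf⟩
    · refine ⟨X.t * x, mul_mem D.tN xN, by simpa only [D.ts, ← mul_cj] using xt.cj D.tN, ?_,
        by simpa only [D.tf, ← mul_cj] using xf.cj D.tN⟩
      have := ((Md.refl X.t).mul xt D.sN).mul e D.fN
      rw [D.ff] at this
      simpa [cj, mul_assoc] using this.mem (one_mem _)
    exacts [absurd (fx e) nt, absurd (fx e) ns]
  obtain ⟨w, hw, d⟩ := D.cjf k4 (cj_sq D.ff)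
  have hw' := inv_mem hw
  refine ⟨w⁻¹ * x', D, mul_mem (le_normalizer hw') k1, ?_,
    (((Md.left hw' k1).mul (Md.left hw' k1) k1).mem k3), by rw [mul_cj, ← d, inv_cj_cj]⟩
  rw [mul_cj]
  exact (D.ab (hY hw') D.sS).trans (k2.cj (le_normalizer hw'))

namespace Sw

variable {x : G} (D : Sw X Y b s τ y x)
include D

local notation "UU" => adj (adj Y (X.t * s)) x
local notation "PP" => adj (adj (adj Y (X.t * s)) x) X.t

theorem xs {u : G} (hu : u ∈ Y) : cj s (cj x u) = cj x (cj X.t u) := by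
  obtain ⟨w, hw, e⟩ := D.xt.ex
  rw [← cj_cj x, e, mul_cj, D.cY hw (mem_norm.1 D.xN u hu)]
theorem xf' (u : G) : cj (f0) (cj x u) = cj x (cj (f0) u) := by rw [← cj_cj x, D.xf]
theorem xz : cj x (X.v 1) = X.v 1 := by
  have h := vY D.toTow (1 : F)
  obtain ⟨a, c, e⟩ := D.memY _ (mem_norm.1 D.xN _ h)
  have h1 := D.xs h
  have h2 := D.xf' (X.v 1)
  rw [X.t_v, e, D.s_el] at h1
  rw [cj_comm.1 (mem_cen.1 D.z0.2), e, D.f_el] at h2
  obtain ⟨h3, h4⟩ := D.toCrd.inj h1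
  have h5 := (D.toCrd.inj h2).1
  obtain rfl : c = 0 := by linear_combination h3 - h5 - h4
  rw [D.toCrd.pre.y_zero, mul_one] at e
  rw [e, mul_left_cancel₀ (fun d => one_ne_zero (X.v_eq_one.1 (cj_eq_one.1 (e.trans (X.v_eq_one.2 d)))))
    (h5.trans (mul_one a).symm)]
theorem xy : cj x (y 1) = y 1 := by
  obtain ⟨ω, o1, -⟩ := exists_omega D.four
  have h := vY D.toTow ω
  obtain ⟨a, c, e⟩ := D.memY _ (mem_norm.1 D.xN _ h)
  have h1 := D.xs h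
  have h2 := D.xf' (X.v ω)
  rw [X.t_v, e, D.s_el] at h1
  rw [f0_v D.toDbl, D.τa, o1, add_comm, X.v_add, cj_mul, D.xz, e, D.f_el, ← mul_assoc, ← X.v_add] at h2
  have h3 := (D.toCrd.inj h1).1
  obtain ⟨h5, h4⟩ := D.toCrd.inj h2
  obtain rfl : c = 1 := by linear_combination h3 - h5 - h4 - X.char
  have h6 : cj x (X.v (ω + a) * y 1) = X.v (ω + a) * y 1 := by
    rw [X.v_add, mul_assoc, ← e, cj_mul, ← mul_cj, D.cY D.xx h, D.Yc _ h _ (mem_norm.1 D.xN _ h)]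
  have h7 : (ω + a) * (ω + a + 1) = 0 := by
    linear_combination o1 + h5 + (ω * a + ω + a + 1) * X.char
  rcases mul_eq_zero.1 h7 with d | d
  · rwa [d, X.v_zero, one_mul] at h6
  · rwa [show ω + a = 1 by linear_combination d - X.char, cj_mul, D.xz, mul_right_inj] at h6
theorem x0 {z : G} (hz : z ∈ Y ⊓ centralizer {f0}) : cj x z = z := by
  obtain ⟨a, c, rfl⟩ := D.memY _ hz.1
  obtain ⟨h1, h2⟩ := D.toCrd.inj ((D.f_el a c).symm.trans (cj_comm.1 (mem_cen.1 hz.2)))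
  have k : ∀ {a : F}, a * a = a → a = 0 ∨ a = 1 := fun {a} h =>
    (mul_eq_zero.1 (show a * (a - 1) = 0 by linear_combination h)).imp_right sub_eq_zero.1
  rcases k h1 with rfl | rfl <;> rcases k h2 with rfl | rfl <;>
    simp only [cj_mul, D.xz, D.xy, X.v_zero, D.toCrd.pre.y_zero, cj_one]
theorem commx {u : G} (hu : u ∈ Y) : cj x u * u⁻¹ ∈ Y ⊓ centralizer {f0} := by
  have h := mem_norm.1 D.xN u hu
  refine ⟨Y.mul_mem h (inv_mem hu), mem_cen.2 (cj_comm.1 ?_)⟩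
  have e := D.x0 (D.comm0 hu)
  rw [cj_mul, cj_inv, mul_inv_eq_iff_eq_mul] at e
  rw [cj_mul, D.xf', e, cj_inv, mul_assoc (cj _ u), D.Yc _ (mem_norm.1 D.fN u hu) _
    (mul_mem (inv_mem hu) h), mul_inv_cancel_right, D.Yc _ (inv_mem hu) _ h]
theorem xS : x ∉ SS := fun h => D.fY (by
  have := ((Md.refl X.t).mul ((D.ab h D.iS.mem).trans D.xt.symm) D.tN).mem (X.tt ▸ one_mem _)
  exact this)
theorem iU : Idx MM UU x := idx_adj (fun h => D.xS (D.iS.le h)) (D.nM D.xN (D.xf.symm ▸ Md.refl _))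
  (le_adj D.xx)
theorem tx : Md Y (f0) (X.t * x * (X.t * x)) := by
  simpa [cj, mul_assoc] using (((Md.refl X.t).mul D.xt D.sN).trans (Md.right _ D.xx))
theorem tU : X.t ∉ UU := fun h => by
  rcases D.iU.cases h with e | ⟨k, hk, e⟩
  exacts [D.tM e, D.xS ((mul_mem_cancel_right (D.iS.le hk)).1 (e ▸ D.iS.mem))]
theorem iP : Idx UU PP X.t := idx_adj D.tU (adj_le_comap
  (fun k hk => le_adj (D.nM D.tN (D.tf.symm ▸ Md.refl _) k hk)) (by
    simpa [cj, mul_assoc, X.tinv] using mul_mem (D.iU.le (D.iM.mem_iff.2 (Or.inr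
      ((Md.refl X.t).mul D.xt D.sN)))) D.iU.mem)) (X.tt ▸ one_mem _)
theorem pgU : IsPGroup 2 UU := pg_idx D.iU D.pgM
theorem pgP : IsPGroup 2 PP := pg_idx D.iP D.pgU
theorem SP : SS ≤ PP := adj_le (D.iU.le.trans D.iP.le) D.iP.mem
theorem cenU : ∀ g ∈ UU, ∀ z ∈ Y ⊓ centralizer {f0}, cj g z = z := fun _ hg z hz =>
  mem_cen.1 (adj_le (L := centralizer {z}) (fun g hg => mem_cen.2 (D.cenM g hg z hz))
    (mem_cen.2 (D.x0 hz)) hg)
theorem commU : ∀ a ∈ UU, ∀ b ∈ UU, a * b * a⁻¹ * b⁻¹ ∈ Y ⊓ centralizer {f0} := by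
  have N : ∀ g ∈ UU, g ∈ normalizer ((Y ⊓ centralizer {f0} : Subgroup G) : Set G) := fun g hg =>
    mem_norm.2 fun z hz => (D.cenU g hg z hz).symm ▸ hz
  exact fun a ha b hb => comm_adj (fun g hg => N g (le_adj (le_adj hg))) (N _ (D.iU.le D.iM.mem))
    (N _ D.iU.mem) D.Yc (fun _ => D.comm0) (fun _ => D.commx) (by simp [cj_comm.1 D.xf]) ha hb
theorem nΩU : ∀ u ∈ UU, ¬ X.Ω u := fun _ =>
  D.noΩ D.pgU (by rw [D.iU.card, D.iM.card, D.cardY]) (D.iM.le.trans D.iU.le) D.cenU D.commU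
theorem txsq {m : G} (hm : m ∈ MM) : X.t * x * m * (X.t * x * m) ≠ 1 := fun e => D.fY (by
  have n := mul_mem D.tN D.xN
  rcases D.iM.cases hm with d | ⟨k, hk, rfl⟩
  · exact (e ▸ D.tx.trans ((Md.right _ d).mul (Md.right _ d) n)).symm.mem (one_mem _)
  · have c : X.t * x * (f0) = f0 * (X.t * x) := cj_eq_iff.1 (by rw [mul_cj, D.xf, D.tf])
    have := (Md.right (X.t * x * (f0)) hk).mul (Md.right (X.t * x * (f0)) hk) (mul_mem n D.fN)
    rw [mul_assoc _ _ k, e] at this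
    nth_rw 2 [c] at this
    rw [mul_assoc (X.t * x), ← mul_assoc (f0), D.ff, one_mul] at this
    exact (D.tx.trans this).symm.mem (one_mem _))
theorem fus {u : G} (hu : u ∈ PP) (h : X.Ω u) : ∃ n ∈ PP, cj n X.t = u := by
  have hY := D.iM.le.trans (D.iU.le.trans D.iP.le)
  have uu := X.sqΩ h
  rcases D.iP.cases hu with e | ⟨m, e, rfl⟩
  · exact absurd h (D.nΩU u e)
  rcases D.iU.cases e with e | ⟨k, hk, rfl⟩
  swap
  · exact absurd (mul_assoc X.t x k ▸ uu) (D.txsq hk)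
  rcases D.iM.cases e with e | ⟨k, hk, rfl⟩
  · exact let ⟨w, hw, d⟩ := D.cjt (Md.right _ e) uu; ⟨w, hY hw, d⟩
  · obtain ⟨w, hw, d⟩ := D.cjs (g := X.t * (f0 * k)) (by rw [← mul_assoc, X.ttu]; exact .right _ hk) uu
    obtain ⟨w', hw', d'⟩ := D.cjs D.xt (cj_sq X.tt)
    exact ⟨w * (w'⁻¹ * x), mul_mem (hY hw) (mul_mem (inv_mem (hY hw')) (D.iP.le D.iU.mem)), by
      rw [mul_cj, mul_cj, ← d', inv_cj_cj, d]⟩
theorem sylP : Syl PP ⊤ := by_contra fun hS => by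
  obtain ⟨g, -, h1, h2, h3⟩ := exists_grow D.pgP le_top hS
  have I := idx_adj h2 (mem_norm.1 h1) h3
  obtain ⟨n, hn, e⟩ := D.fus (mem_norm.1 h1 _ D.iP.mem) ((X.Ω_cj g).2 X.Ω_t)
  exact h2 ((mul_mem_cancel_left (inv_mem hn)).1 (D.SP (D.TS (X.infT (pg_idx I D.pgP)
    (D.TS.trans (D.SP.trans I.le)) (mul_mem (inv_mem (I.le hn)) I.mem) (by rw [mul_cj, ← e, inv_cj_cj])))))

theorem big : Lie2 X.L := by
  have hY := D.iM.le.trans (D.iU.le.trans D.iP.le)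
  obtain ⟨h1, h2⟩ := D.fin D.sylP hY D.iP.card D.nΩU D.cenU D.commU
  have fL : f0 ∈ X.L := (X.mul_mem_L h1).2 (X.Ω_L D.sΩ).symm
  have ML : MM ≤ X.L := adj_le D.YL fL
  by_cases h : x ∈ X.L
  · exact h2 fun g hg => (D.iP.cases hg.1).elim id fun ⟨k, hk, e⟩ =>
      absurd ((mul_mem_cancel_right (adj_le ML h hk)).1 (e ▸ hg.2)) h1
  have k : ∀ g ∈ PP ⊓ X.L, g ∈ MM ∨ ∃ m ∈ MM, g = X.t * x * m := fun g hg => by
    rcases D.iP.cases hg.1 with e | ⟨k, e, rfl⟩ <;> rcases D.iU.cases e with e | ⟨m, hm, rfl⟩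
    exacts [.inl e, absurd ((mul_mem_cancel_right (ML hm)).1 hg.2) h,
      absurd ((mul_mem_cancel_right (ML e)).1 hg.2) h1, .inr ⟨m, hm, (mul_assoc ..).symm⟩]
  have k' : PP ⊓ X.L ≤ adj MM (X.t * x) := fun g hg => (k g hg).elim (le_adj ·) fun ⟨m, hm, e⟩ =>
    e ▸ mul_mem self_mem_adj (le_adj hm)
  have n := mul_mem D.tN D.xN
  have PN : PP ≤ normalizer (Y : Set G) := adj_le (adj_le (adj_le le_normalizer D.fN) D.xN) D.tN
  obtain ⟨g, -, e1, e2⟩ := X.trp D.sylP (le_inf hY D.YL) (fun p hp => mem_norm.1 (PN hp))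
    (fun a ha b hb => comm_adj le_normalizer D.fN n D.Yc
      (fun a ha => mul_mem (mem_norm.1 D.fN a ha) (inv_mem ha))
      (fun a ha => mul_mem (mem_norm.1 n a ha) (inv_mem ha))
      (by rw [cj_comm.1 (show cj (X.t * x) (f0) = f0 by rw [mul_cj, D.xf, D.tf])]; simp) (k' ha) (k' hb))
    (x := f0) (y := X.t) ⟨D.iP.le (D.iU.le D.iM.mem), fL⟩ D.fY D.ff (j := 1) (by simpa [pow_two] using X.tt)
    (cj_eq_iff.1 D.q4.tmul.e_t) fun g hg e => by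
      rcases k _ ⟨e, cj_mem hg fL⟩ with d | ⟨m, hm, d⟩
      · exact (D.iM.dich _ d).imp_right fun d => by rwa [inv_eq_of_mul_eq_one_right D.ff] at d
      · exact absurd (d ▸ cj_sq D.ff) (D.txsq hm)
  obtain ⟨p, hp, e3⟩ := D.fus e2 ((X.Ω_cj g).2 X.Ω_t)
  have c1 : cj (p⁻¹ * g) X.t = X.t := by rw [mul_cj, ← e3, inv_cj_cj]
  have c2 : cj (p⁻¹ * g) (f0) ∈ X.V := D.cenY _ (mul_cj p⁻¹ g _ ▸ mem_norm.1 (inv_mem (PN hp)) _ e1) (by
    nth_rw 2 [← c1]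
    rw [cj_cj, D.q4.tmul.e_t, c1])
  exact absurd (inv_cj_cj (p⁻¹ * g) (f0) ▸ X.C_A0 (inv_cj_eq.2 c1) (X.V_le_A0 c2)) D.q4.tmul.e_A0

end Sw

end Q4E

theorem Fr.Crd.lie4 {X : Fr G F} {Y : Subgroup G} {b : G → F} {s : G} {τ : F ≃+* F} {y : F → G}
    (D : X.Crd Y b s τ y) (h : Nat.card F = 4) : Lie2 X.L := by
  have C : Q4E.C4 X Y b s τ y := ⟨D, h⟩
  by_cases hS : Syl (adj (adj Y (X.t * s)) X.t) ⊤
  exacts [C.small hS, let ⟨_, e⟩ := C.exists_sw hS; e.big]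

end H25.L2B
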