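import Cfsg.Agent.Lib.L2B.Q4B
import Cfsg.Agent.Lib.L2B.Au3a
import Cfsg.Agent.Lib.L2B.Au3b
import Cfsg.Agent.Lib.TwoFusion.QW
import Cfsg.Agent.Lib.GL.SylowSL2
import Cfsg.Agent.Lib.SL2.Invol
import Cfsg.Agent.Lib.Golay.Mathieu
import Cfsg.Agent.Lib.LocStruct.SylowIn
import Cfsg.Agent.S1240
import Cfsg.Agent.S0507
import Cfsg.Agent.S0523
import Cfsg.Agent.S0420
import Cfsg.Agent.S2060

/-! Quasi-dihedral and wreathed Sylow subgroups in the case `q = 4`. -/

set_option autoImplicit false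
set_option linter.style.haveILetI false
set_option linter.unusedSectionVars false

namespace H25.L2B

open Subgroup H4.YM H4.TL Matrix MatrixGroups

variable {G : Type*} [Group G] [Finite G] {F : Type*} [Field F] [Finite F]

namespace AU3

open Cfsg

theorem ar {q m : ℕ} (hq : Odd q) (hm : ¬ 2 ∣ m) (h : q * (q - 1) * (q + 1) = 8 * m) :
    q % 8 = 3 ∨ q % 8 = 5 := by
  obtain ⟨p, rfl⟩ := hq
  rw [Nat.add_sub_cancel] at h
  have h1 : (2 * p + 1) * (2 * p) * (2 * p + 1 + 1) % 16 = 8 := by omega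
  by_contra h2
  have h3 : p % 16 = 0 ∨ p % 16 = 3 ∨ p % 16 = 4 ∨ p % 16 = 7 ∨ p % 16 = 8 ∨ p % 16 = 11 ∨
      p % 16 = 12 ∨ p % 16 = 15 := by omega
  rcases h3 with e | e | e | e | e | e | e | e <;> simp [Nat.mul_mod, Nat.add_mod, e] at h1

theorem quat {k : ℕ} (hk : 1 ≤ k) : ∃ a b : QuaternionGroup (2 ^ k), a * b ≠ b * a := by
  refine ⟨.a 1, .xa 0, fun e => ?_⟩
  rw [QuaternionGroup.a_mul_xa, QuaternionGroup.xa_mul_a] at e
  have h : ((2 : ℕ) : ZMod (2 * 2 ^ k)) = 0 := by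
    have := QuaternionGroup.xa.inj e
    push_cast
    linear_combination -this
  have := Nat.le_of_dvd two_pos ((ZMod.natCast_eq_zero_iff _ _).1 h)
  have := Nat.pow_le_pow_right (n := 2) two_pos hk
  omega

theorem odd_one {C : Type*} [Group C] {x : C} (h : Odd (orderOf x)) {k : ℕ} (e : x ^ 2 ^ k = 1) :
    x = 1 :=
  orderOf_eq_one_iff.1 (((Nat.coprime_two_right.2 h).pow_right k).eq_one_of_dvd
    (orderOf_dvd_of_pow_eq_one e))

theorem sqrt {C : Type*} [Group C] {x : C} (h : Odd (orderOf x)) : ∃ m : ℕ, (x * x) ^ m = x := by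
  obtain ⟨j, e⟩ := h
  exact ⟨j + 1, by rw [← pow_two, ← pow_mul, mul_add, mul_one, add_comm, show 2 + 2 * j = 1 + (2 * j + 1) by ring,
    pow_add, ← e, pow_orderOf_eq_one, pow_one, mul_one]⟩

theorem core {C E : Type*} [Group C] [Finite C] [Field E] [Fintype E] (hE : Odd (Fintype.card E))
    (η : commutator (C ⧸ oddCore C) ≃* SL(2, E)) {S : Subgroup C} (hS : H69.IsSylowIn 2 S ⊤) {z c : C}
    (z1 : z ≠ 1) (zz : z * z = 1)
    (hu : ∀ u ∈ S, u * u = 1 → u ≠ 1 → (∀ s ∈ S, s * u = u * s) → u = z)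
    (hQ : ∀ Q ≤ S, (∀ x ∈ Q, x * x = 1 → x = 1 ∨ x = z) → (∃ x ∈ Q, ∃ y ∈ Q, x * y ≠ y * x) →
      c ∈ Q ∧ Nat.card Q = 8) (φ ψ : MulAut C) (hφ : φ * φ = 1) (hψ : ψ * ψ = 1) (h1 : φ c = c)
    (h2 : ψ c = c⁻¹) (h3 : c * c = z) (h : ∀ d, Odd (orderOf d) → φ d = d → ψ d = d) :
    Nat.card (commutator (C ⧸ oddCore C)) ≤ 120 := by
  haveI : Fact (Nat.Prime 2) := ⟨Nat.prime_two⟩
  haveI oc : (oddCore C).Characteristic := H1.pPrimeCore_characteristic
  let K := (commutator (C ⧸ oddCore C)).comap (QuotientGroup.mk' (oddCore C))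
  haveI : K.Characteristic := Characteristic.comap_quotient_mk inferInstance
  let π : K →* SL(2, E) := η.toMonoidHom.comp ((QuotientGroup.mk' _).subgroupComap _)
  have hπ : Function.Surjective π := η.surjective.comp
    (MonoidHom.subgroupComap_surjective_of_surjective _ _ (QuotientGroup.mk'_surjective _))
  have ker : ∀ k : K, π k = 1 ↔ (k : C) ∈ oddCore C := fun k =>
    η.map_eq_one_iff.trans (Subtype.ext_iff.trans (QuotientGroup.eq_one_iff _))
  have odd : ∀ x ∈ oddCore C, Odd (orderOf x) := fun x hx =>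
    Nat.coprime_two_right.1 (H1.coprime_orderOf_of_mem_pPrimeCore hx)
  have ind : ∀ θ : MulAut C, θ * θ = 1 → ∃ α : MulAut SL(2, E), α * α = 1 ∧
      ∀ k, α (π k) = π (MulAut.characteristic K θ k) := fun θ hθ => by
    let α : MulAut SL(2, E) := η.symm.trans ((MulAut.characteristic (commutator _)
      (QuotientGroup.congr _ _ θ (characteristic_iff_map_eq.1 oc θ))).trans η)
    have a : ∀ k, α (π k) = π (MulAut.characteristic K θ k) := fun k => by
      simp only [α, π, MulEquiv.trans_apply, MonoidHom.comp_apply, MulEquiv.coe_toMonoidHom,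
        MulEquiv.symm_apply_apply]
      rfl
    refine ⟨α, MulEquiv.ext fun x => ?_, a⟩
    obtain ⟨k, rfl⟩ := hπ x
    rw [MulAut.mul_apply, a, a, ← MulAut.mul_apply, ← map_mul, hθ, map_one]
    rfl
  let ρ : (S ⊓ K : Subgroup C) →* SL(2, E) := π.comp (inclusion inf_le_right)
  have hρ : Function.Injective ρ := (injective_iff_map_eq_one ρ).2 fun x hx => by
    obtain ⟨k, hk⟩ := hS.isP ⟨x, x.2.1⟩
    exact Subtype.ext (odd_one (odd _ ((ker _).1 hx)) (congrArg Subtype.val hk))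
  have sy := (hS.inf_normal (N := K) le_top fun g _ => mem_normalizer_iff.2 fun x =>
    ⟨fun hx => Normal.conj_mem inferInstance x hx g,
      fun hx => by simpa [mul_assoc] using Normal.conj_mem inferInstance _ hx g⁻¹⟩).subgroupOf_top.map π
  rw [map_top_of_surjective π hπ] at sy
  obtain ⟨P, hP⟩ := sy.exists_sylow_top
  have er : (P : Subgroup SL(2, E)) = ρ.range := by
    rw [hP, MonoidHom.range_comp, inclusion_range]
  have hE' : Odd (Nat.card E) := by rwa [Nat.card_eq_fintype_card]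
  have two := H3.NG.two_ne_zero_of_odd hE
  obtain ⟨hc, h8⟩ := hQ (S ⊓ K) inf_le_left (fun x hx xx => by
    by_cases x1 : x = 1
    · exact Or.inl x1
    have k : ∀ y : (S ⊓ K : Subgroup C), (y : C) * y = 1 → (y : C) ≠ 1 → ρ y = -1 := fun y yy y1 =>
      (H29.sl_eq_of_mul_self_eq_one two (by rw [← map_mul, show y * y = 1 from Subtype.ext yy, map_one])
        ).resolve_left fun e => y1 (congrArg Subtype.val (hρ (e.trans ρ.map_one.symm)))
    refine Or.inr (hu x hx.1 xx x1 fun s hs => cj_eq_iff.1 ?_)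
    exact congrArg Subtype.val (hρ ((k ⟨cj s x, cj_mem hs hx.1, Normal.conj_mem inferInstance x hx.2 s⟩
      (cj_sq xx) fun e => x1 (cj_eq_one.1 e)).trans (k ⟨x, hx⟩ xx x1).symm))) (by
    obtain ⟨k, hk, -, -, hh, -⟩ := H10.exists_sylow_two_SL_two (F := E) hE'
    obtain ⟨f⟩ := hh P
    obtain ⟨a, b, ab⟩ := quat hk
    obtain ⟨x, hx⟩ : (f.symm a : SL(2, E)) ∈ ρ.range := er ▸ (f.symm a).2
    obtain ⟨y, hy⟩ : (f.symm b : SL(2, E)) ∈ ρ.range := er ▸ (f.symm b).2
    refine ⟨x, x.2, y, y.2, fun e => ab (f.symm.injective (Subtype.ext ?_))⟩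
    rw [map_mul, map_mul, coe_mul, coe_mul, ← hx, ← hy, ← map_mul, ← map_mul,
      show x * y = y * x from Subtype.ext e])
  have c8 : Nat.card P = 8 := by
    rw [er, ← h8]; exact (Nat.card_congr (MonoidHom.ofInjective hρ).toEquiv).symm
  have hm := ar hE' P.not_dvd_index (by
    rw [← H10.card_SL_two, ← c8, (P : Subgroup SL(2, E)).card_mul_index])
  rw [Nat.card_congr η.toEquiv, H10.card_SL_two]
  by_cases h5 : 5 < Fintype.card E
  swap
  · rw [Nat.card_eq_fintype_card]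
    exact Nat.mul_le_mul (Nat.mul_le_mul (show _ ≤ 5 by omega) (show _ ≤ 4 by omega))
      (show _ ≤ 6 by omega)
  obtain ⟨α, a1, a2⟩ := ind φ hφ
  obtain ⟨β, b1, b2⟩ := ind ψ hψ
  refine (sl2_two_aut (by rwa [← Nat.card_eq_fintype_card]) h5 α β a1 b1 (c := π ⟨c, hc.2⟩)
    (by rw [a2]; exact congrArg π (Subtype.ext h1))
    (by rw [b2, ← map_inv]; exact congrArg π (Subtype.ext h2))
    (fun e => z1 (odd_one (odd _ (h3 ▸ (ker (⟨c, hc.2⟩ * ⟨c, hc.2⟩)).1 (by rwa [map_mul])))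
      (k := 1) (by rw [pow_one, pow_two, zz]))) fun d d1 d2 => ?_).elim
  obtain ⟨k, rfl⟩ := hπ d
  have o1 : (k : C)⁻¹ * φ k ∈ oddCore C :=
    (ker (k⁻¹ * MulAut.characteristic K φ k)).1 (by rw [map_mul, map_inv, ← a2, d2, inv_mul_cancel])
  obtain ⟨m, e⟩ := sqrt (odd _ o1)
  have i1 : φ ((k : C)⁻¹ * φ k) = ((k : C)⁻¹ * φ k)⁻¹ := by
    rw [map_mul, map_inv, show φ (φ k) = k from DFunLike.congr_fun hφ (k : C)]; simp
  have s1 : ((k : C)⁻¹ * φ k) ^ m ∈ oddCore C := pow_mem o1 m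
  have sK : ((k : C)⁻¹ * φ k) ^ m ∈ K := by
    change QuotientGroup.mk' _ _ ∈ commutator _
    rw [QuotientGroup.mk'_apply, (QuotientGroup.eq_one_iff _).2 s1]
    exact one_mem _
  have e1 : π (k * ⟨_, sK⟩) = π k := by rw [map_mul, (ker ⟨_, sK⟩).2 s1, mul_one]
  have e2 : φ (k * ((k : C)⁻¹ * φ k) ^ m) = k * ((k : C)⁻¹ * φ k) ^ m := by
    rw [map_mul, map_pow, i1, inv_pow, mul_inv_eq_iff_eq_mul, mul_assoc, ← (Commute.refl _).mul_pow, e]
    simp
  have e3 : Odd (orderOf ((k : C) * ((k : C)⁻¹ * φ k) ^ m)) := by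
    have := odd _ ((ker ((k * ⟨_, sK⟩) ^ orderOf (π k))).1 (by rw [map_pow, e1, pow_orderOf_eq_one]))
    refine (d1.mul this).of_dvd_nat (orderOf_dvd_of_pow_eq_one ?_)
    rw [pow_mul]
    exact pow_orderOf_eq_one _
  rw [← e1, b2]
  exact congrArg π (Subtype.ext (h _ e3 e2))

theorem qw_inv {S : Subgroup G} (h : H41.QW S) {u z : G} (hu : u ∈ S) (hz : z ∈ S) (uu : u * u = 1)
    (zz : z * z = 1) (u1 : u ≠ 1) (z1 : z ≠ 1) (cu : ∀ s ∈ S, s * u = u * s)
    (cz : ∀ s ∈ S, s * z = z * s) : u = z := by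
  rcases h with ⟨k, x, y, h⟩ | ⟨k, x, y, t, h⟩
  · exact ((h.center_iff hu cu).resolve_left u1).trans ((h.center_iff hz cz).resolve_left z1).symm
  · exact ((h.Z_invol (h.map_center ▸ H41.mem_map_center_iff.2 ⟨hu, cu⟩) uu).resolve_left u1).trans
      ((h.Z_invol (h.map_center ▸ H41.mem_map_center_iff.2 ⟨hz, cz⟩) zz).resolve_left z1).symm

theorem qw_equiv {A B : Type*} [Group A] [Group B] (e : A ≃* B)
    (h : IsQuasiDihedral A ∨ IsWreathed A) : IsQuasiDihedral B ∨ IsWreathed B := by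
  rcases h with ⟨n, h1, h2, x, y, h3, h4, h5⟩ | ⟨n, h1, h2, x, y, z, h3, h4, h5, h6, h7⟩
  · exact .inl ⟨n, h1, Nat.card_congr e.toEquiv ▸ h2, e x, e y, by rwa [e.orderOf_eq],
      by rwa [e.orderOf_eq], by rw [← map_pow, ← h5]; simp⟩
  · refine .inr ⟨n, h1, Nat.card_congr e.toEquiv ▸ h2, e x, e y, e z, by rwa [e.orderOf_eq],
      by rw [← map_mul, h4, map_mul], ?_, by rwa [e.orderOf_eq], by rw [← h7]; simp⟩
    have := congrArg (Subgroup.map e.toMonoidHom) h5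
    rwa [map_inf _ _ _ e.injective, MonoidHom.map_zpowers, MonoidHom.map_zpowers, Subgroup.map_bot] at this

theorem m11_inner (hG : IsM11 G) (φ : MulAut G) : ∃ g, ∀ x, φ x = g * x * g⁻¹ := by
  obtain ⟨e⟩ := Cfsg.Agent.S0420.result hG _ H15.squareDodecad_mem _ H15.zero_mem_squareDodecad
  replace e : G ≃* Spor.M11 := e.trans
    { toFun := fun x => ⟨x.1.1, ⟨x.1.2, x.2.1⟩, x.2.2⟩
      invFun := fun x => ⟨⟨x.1, x.2.1.1⟩, x.2.1.2, x.2.2⟩
      left_inv := fun _ => rfl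
      right_inv := fun _ => rfl
      map_mul' := fun _ _ => rfl }
  have h1 : Inn Spor.M11 = ⊤ := index_eq_one.1 Cfsg.Agent.S2060.result
  obtain ⟨g, hg⟩ : (e.symm.trans φ).trans e ∈ Inn Spor.M11 := h1 ▸ mem_top _
  exact ⟨e.symm g, fun x => e.injective (by simpa using (DFunLike.congr_fun hg (e x)).symm)⟩

theorem cen_uu (h : (2 : F) = 0) {M : SL(2, F)} (e : M * uu 1 = uu 1 * M) : M * M = 1 := by
  have a : ∀ i j, (M.1 * (uu (1 : F)).1) i j = ((uu (1 : F)).1 * M.1) i j := fun i j =>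
    congrArg (fun N : SL(2, F) => N.1 i j) e
  have a0 := a 0 0
  have a1 := a 0 1
  have d := M.2
  rw [det_fin_two] at d
  simp [uu, Matrix.mul_apply, Fin.sum_univ_two] at a0 a1
  refine Subtype.ext ?_
  change M.1 * M.1 = 1
  ext i j
  fin_cases i <;> fin_cases j <;> simp [Matrix.mul_apply, Fin.sum_univ_two, a0]
  · linear_combination d + M.1 0 0 * a1 + M.1 0 1 * a0
  · linear_combination M.1 0 1 * a1 + M.1 0 1 * M.1 1 1 * h
  · linear_combination d - M.1 1 1 * a1 + M.1 0 1 * a0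

/-- conjugation on the centraliser in a normal subgroup -/
theorem exists_aut {L : Subgroup G} [L.Normal] {z : L} {g : G} (h : cj g z = z) (gg : g * g = 1) :
    ∃ φ : MulAut (centralizer {z} : Subgroup L), φ * φ = 1 ∧ ∀ x, ((φ x : L) : G) = cj g ((x : L) : G) := by
  let f : (centralizer {z} : Subgroup L) →* (centralizer {z} : Subgroup L) :=
    ((MulAut.conjNormal g).toMonoidHom.comp (centralizer {z} : Subgroup L).subtype).codRestrict _
      fun x => mem_cen.2 (Subtype.ext (by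
        change cj (cj g ((x : L) : G)) z = z
        rw [← h, cj_cj, h]
        exact (congrArg (cj g) (congrArg Subtype.val (mem_cen.1 x.2))).trans h))
  have ff : ∀ x, f (f x) = x := fun x => Subtype.ext (Subtype.ext (by
    change cj g (cj g ((x : L) : G)) = _
    rw [← mul_cj, gg, one_cj]))
  exact ⟨⟨⟨f, f, ff, ff⟩, f.map_mul⟩, MulEquiv.ext ff, fun _ => rfl⟩

end AU3

open AU3

/-- quasi-dihedral or wreathed Sylow subgroups -/
theorem Fr.Q4.aut3 {X : Fr G F} {τ : F ≃+* F} {e : G} (D : X.Q4 τ e) (h : X.t ∉ X.L) (he : e ∈ X.L)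
    {S : Subgroup G} (hS : Syl S X.L) (hz : ∀ x ∈ S, cj x (X.v 1) = X.v 1)
    (hw : Cfsg.IsQuasiDihedral S ∨ Cfsg.IsWreathed S) {a : F} (ha : a * a ≠ a)
    (hQ : ∀ Q ≤ S, (∀ x ∈ Q, x * x = 1 → x = 1 ∨ x = X.v 1) → (∃ x ∈ Q, ∃ y ∈ Q, x * y ≠ y * x) →
      X.v a * e ∈ Q ∧ Nat.card Q = 8) : Four X.L := by
  haveI : Fact (Nat.Prime 2) := ⟨Nat.prime_two⟩
  haveI := X.nrm
  haveI := X.simple
  have vL : ∀ b, X.v b ∈ X.L := fun b => X.A0_le_L (X.V_le_A0 (X.v_mem_V b))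
  have hS' := syl_iff.1 hS
  obtain ⟨P, hP⟩ := hS'.exists_sylow_subgroupOf
  have hw' := qw_equiv ((subgroupOfEquivOfLe hS.le).symm.trans (MulEquiv.subgroupCongr hP.symm)) hw
  have hone : ∀ a b : X.L, orderOf a = 2 → orderOf b = 2 → IsConj a b := fun a b =>
    (H41.qw_of hw').isConj X.idx2L
  have z1 : X.v 1 ≠ 1 := fun e => one_ne_zero (X.v_eq_one.1 e)
  let z : X.L := ⟨X.v 1, vL 1⟩
  have oz : orderOf z = 2 := orderOf_eq_prime (Subtype.ext (by simpa [pow_two] using X.v_sq 1))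
    fun e => z1 (congrArg Subtype.val e)
  have zS : X.v 1 ∈ S := hS'.le_of_le_normalizer (pg_zpowers (k := 1) (by simp [pow_two, X.v_sq]))
    (zpowers_le.2 (vL 1)) (fun s hs => mem_norm.2 (by
      rintro _ ⟨i, rfl⟩
      refine ⟨i, ?_⟩
      have := hz s hs
      simp only [cj] at this ⊢
      rw [← conj_zpow, this])) (mem_zpowers _)
  have a1 : a + a * a = 1 := by
    obtain ⟨ω, h1, -, -, h2⟩ := exists_omega D.four
    rcases h2 a with rfl | rfl | rfl | rfl
    · exact absurd (mul_zero 0) ha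
    · exact absurd (mul_one 1) ha
    · linear_combination h1 + a * X.char
    · linear_combination h1 + (2 * ω + 1) * X.char
  have cc : X.v a * e * (X.v a * e) = X.v 1 := by
    rw [← a1, X.v_add, ← D.e_v, cj, inv_eq_of_mul_eq_one_right D.ee]; group
  have small : Nat.card (commutator (centralizer ({z} : Set X.L) ⧸
      Cfsg.oddCore (centralizer ({z} : Set X.L)))) ≤ 120 := by
    obtain ⟨E, _, _, hE, ⟨η⟩⟩ := Cfsg.Agent.S1240.result P hw' X.idx2L hone z oz
    let j : (centralizer {z} : Subgroup X.L) →* G := X.L.subtype.comp (Subgroup.subtype _)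
    have hj : Function.Injective j := Subtype.val_injective.comp Subtype.val_injective
    have lift : ∀ s ∈ S, ∃ x, j x = s := fun s hs =>
      ⟨⟨⟨s, hS.le hs⟩, mem_cen.2 (Subtype.ext (hz s hs))⟩, rfl⟩
    have sy : H69.IsSylowIn 2 (S.comap j) ⊤ := (hS'.subgroupOf_top.mono
      (K := centralizer {z}) (fun s hs => mem_cen.2 (Subtype.ext (hz s hs))) le_top).subgroupOf_top
    obtain ⟨φ, p1, p2⟩ := exists_aut (z := z) (X.t_v 1) X.tt
    obtain ⟨ψ, q1, q2⟩ := exists_aut (z := z) (X.v_comm a 1) (X.v_sq a)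
    refine core hE η sy (z := ⟨z, mem_cen.2 (cj_eq_iff.2 rfl)⟩)
      (c := ⟨⟨X.v a * e, mul_mem (vL a) he⟩, mem_cen.2 (Subtype.ext (by
        change cj (X.v a * e) (X.v 1) = X.v 1
        rw [mul_cj, D.e_v, mul_one, X.v_comm]))⟩)
      (fun e => z1 (congrArg j e)) (hj (X.v_sq 1)) (fun u hu uu u1 cu => hj ?_) (fun Q h1 h2 h3 => ?_)
      φ ψ p1 q1 (hj ?_) (hj ?_) (hj cc) fun d d1 d2 => hj ?_
    · refine qw_inv (H41.qw_of hw) hu zS (congrArg j uu) (X.v_sq 1) (fun e => u1 (hj e)) z1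
        (fun s hs => ?_) fun s hs => cj_eq_iff.1 (hz s hs)
      obtain ⟨x, rfl⟩ := lift s hs
      exact congrArg j (cu x hs)
    · obtain ⟨hx, h8⟩ := hQ (Q.map j) (map_le_iff_le_comap.2 h1) (by
        rintro _ ⟨x, hx, rfl⟩ xx
        exact (h2 x hx (hj xx)).imp (congrArg j) (congrArg j)) (by
        obtain ⟨x, hx, y, hy, e⟩ := h3
        exact ⟨_, ⟨x, hx, rfl⟩, _, ⟨y, hy, rfl⟩, fun e' => e (hj e')⟩)
      exact ⟨(mem_map_iff_mem hj).1 hx, card_map_of_injective hj ▸ h8⟩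
    · refine (p2 _).trans ?_
      change cj X.t (X.v a * e) = X.v a * e
      rw [cj_mul, X.t_v, cj_comm.1 D.e_t]
    · refine (q2 _).trans ?_
      change cj (X.v a) (X.v a * e) = (X.v a * e)⁻¹
      rw [cj, ← mul_assoc, X.v_sq, one_mul, _root_.mul_inv_rev, inv_eq_of_mul_eq_one_right D.ee]
    · refine (q2 _).trans ?_
      change cj (X.v a) (j d) = j d
      have o1 : Odd (orderOf (j d)) := by rwa [orderOf_injective j hj]
      have c1 : cj (j d) X.t = X.t := cj_comm.1 ((p2 d).symm.trans (congrArg j d2))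
      have c2 : cj (j d) (X.v 1) = X.v 1 := congrArg Subtype.val (mem_cen.1 d.2)
      generalize j d = k at o1 c1 c2
      have f1 : ∀ M, ∀ κ ∈ X.K, cj (X.φ M * κ) (X.v 1) = X.v 1 → X.φ M * κ * (X.φ M * κ) ∈ X.K :=
        fun M κ hκ e => by
          have k1 := (X.mem_K.1 hκ).2
          rw [mul_cj, show cj κ (X.v 1) = X.v 1 from k1 _] at e
          have := cen_uu X.char (M := M) (X.inj (by rw [map_mul, map_mul]; exact cj_eq_iff.1 e))
          rw [mul_assoc, ← mul_assoc κ, cj_eq_iff.1 (k1 M), mul_assoc, ← mul_assoc, ← map_mul, this,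
            map_one, one_mul]
          exact mul_mem hκ hκ
      have f2 : k * k * (k * k) ∈ X.K := by
        have c3 : cj (k * k) (X.v 1) = X.v 1 := by rw [mul_cj, c2, c2]
        obtain ⟨M, κ, hκ, e' | e'⟩ := D.cen_t c1
        · have := f1 M κ hκ (e' ▸ c2)
          rw [← e'] at this
          exact mul_mem this this
        · have e2 : k * k = X.φ (M * fa τ M) * (κ * cj e κ) := by
            rw [map_mul, ← D.eφ, mul_assoc, ← mul_assoc (cj e _), D.eφ,
              ← cj_eq_iff.1 ((X.mem_K.1 hκ).2 (fa τ M)), ← D.eφ, mul_assoc, ← cj_mul, e', cj,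
              inv_eq_of_mul_eq_one_right D.ee]
            group
          rw [e2] at c3 ⊢
          exact f1 _ _ (mul_mem hκ (X.C_K D.e_t hκ)) c3
      obtain ⟨m, e1⟩ := sqrt o1
      obtain ⟨n, e2⟩ := sqrt (x := k * k) (by
        rw [← pow_two]; exact o1.of_dvd_nat (orderOf_pow_dvd 2))
      have : k ∈ X.K := by rw [← e1, ← e2]; exact pow_mem (pow_mem f2 n) m
      exact cj_comm.1 ((X.mem_K.1 this).2 _)
  have h5 : 5 ∣ Nat.card X.L := by
    refine Dvd.dvd.trans ?_ (card_dvd_of_le X.A0_le_L)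
    rw [X.card_A0, D.four]; norm_num
  have m11 : ¬ Cfsg.IsM11 X.L := fun hM => by
    obtain ⟨g, hg⟩ := m11_inner hM (MulAut.conjNormal X.t)
    have := X.cen ((g : G)⁻¹ * X.t) fun x hx => by
      rw [mul_cj, inv_cj_eq]; exact (congrArg Subtype.val (hg ⟨x, hx⟩)).symm
    exact h (inv_mul_eq_one.1 this ▸ g.2)
  refine four_of_small hone oz small h5 ?_
  rcases hw' with h1 | h1
  · rcases Cfsg.Agent.S0507.result P h1 with ⟨E, _, _, h2, h3⟩ | ⟨E, _, _, q, h2, h3, h4⟩ | h2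
    · exact .inl ⟨E, _, _, Nat.odd_iff.2 (by omega), h3⟩
    · exact .inr ⟨E, _, _, q, h2, Nat.odd_iff.2 (by omega), h4⟩
    · exact absurd h2 m11
  · exact (Cfsg.Agent.S0523.result P h1).imp_right fun h2 => h2.resolve_right m11

end H25.L2B
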