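import Cfsg.Agent.Lib.L2B.Au3
import Cfsg.Agent.Lib.L2B.Trp
import Cfsg.Agent.Lib.L2B.GenA
import Cfsg.Agent.Lib.L2B.Q4N1
import Cfsg.Agent.Lib.L2B.Q4Z1
import Cfsg.Agent.S3296

/-!
The case `q = 4` with `Y` homocyclic of exponent four.
-/

set_option autoImplicit false
set_option linter.unusedSectionVars false

namespace H25.L2B

open Subgroup H4.YM H4.TL Matrix MatrixGroups

variable {G : Type*} [Group G] [Finite G] {F : Type*} [Field F] [Finite F]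

theorem Fr.Dbl.z4 {X : Fr G F} {Y : Subgroup G} {b : G → F} {s : G} {τ : F ≃+* F}
    (D : X.Dbl Y b s τ) (h : Nat.card F = 4) : (∀ y ∈ Y, y * y = 1) ∨ X.Z4 τ s Y := by
  by_cases hel : ∀ y ∈ Y, y * y = 1
  · exact Or.inl hel
  right
  have c2 := X.char
  have sT : s ∈ X.T := adj_le (zpowers_le.2 X.f_mem_T) (X.R_le_T X.tR) D.sT
  have Q : X.Q4 τ s := ⟨h, D.τ1, X.sqΩ D.sΩ, sT, D.sφ⟩
  have sN := X.T_le_N1 sT
  have vsq : ∀ u ∈ X.V, u * u = 1 := fun u hu => X.E_sq (X.iE.le hu)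
  have bk : ∀ y ∈ Y, ∀ y' ∈ Y, b y = b y' → y * y' ∈ X.V := fun y hy y' hy' e =>
    (D.b_ker _ (mul_mem hy hy')).1 (by rw [D.b_mul _ hy _ hy', e]; linear_combination b y' * c2)
  have sq : ∀ y ∈ Y, y * y ∈ X.V := fun y hy => bk y hy y hy rfl
  have same : ∀ y ∈ Y, ∀ y' ∈ Y, b y = b y' → y * y = y' * y' := fun y hy y' hy' e => by
    have h1 := vsq _ (bk y hy y' hy' e)
    rw [mul_assoc, ← mul_assoc y', ← D.Yc y hy y' hy', mul_assoc, ← mul_assoc] at h1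
    rw [eq_inv_of_mul_eq_one_left h1, inv_eq_of_mul_eq_one_right (vsq _ (sq y' hy'))]
  obtain ⟨y1, hy1, b1⟩ := D.b_surj 1
  obtain ⟨l, hl⟩ := X.mem_V.1 (sq y1 hy1)
  have key : ∀ y ∈ Y, y * y = X.v (l * b y) := fun y hy => by
    by_cases h0 : b y = 0
    · rw [h0, mul_zero, X.v_zero]; exact vsq y ((D.b_ker y hy).1 h0)
    · have h1 := D.b_cj _ (X.h_N1 (Units.mk0 _ h0)) y1 hy1
      rw [b1, X.h_v, Units.val_mk0, mul_one] at h1
      rw [← same _ (D.nY _ (X.h_N1 _) y1 hy1) y hy (X.v_inj h1), ← cj_mul, hl, X.h_v, Units.val_mk0,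
        mul_comm]
  have l1 : l = 1 := by
    have h1 := D.b_cj _ sN y1 hy1
    rw [b1, Q.e_v, one_mul] at h1
    have h2 := key _ (D.nY _ sN y1 hy1)
    rw [← cj_mul, hl, Q.e_v, X.v_inj h1, mul_one] at h2
    refine mul_left_cancel₀ (a := l) (fun e => hel fun y hy => ?_) (by rw [X.v_inj h2, mul_one])
    rw [key y hy, e, zero_mul, X.v_zero]
  subst l1
  obtain ⟨e, -, e2, -, e4⟩ := D.b_pow
  have he : ∀ u ∈ X.V, u ^ e = u := by
    rcases Nat.even_or_odd e with ⟨k, rfl⟩ | ho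
    · obtain ⟨a, ha, e3⟩ := e2 _ (X.v_mem_V 1)
      rw [← two_mul, pow_mul, pow_two, vsq a ha, one_pow, eq_comm, X.v_eq_one] at e3
      exact absurd e3 one_ne_zero
    · exact fun u hu => GoodAux.pow_odd (vsq u hu) ho
  refine ⟨Q, D.R2, D.nV, D.sΩ, D.AY, D.YL, by rw [D.toTow.cardY, X.card_V, h], sq,
    fun y hy e => (D.b_ker y hy).1 ?_, fun y hy => ?_, D.nY s sN, Or.inr D.ΩA⟩
  · rwa [key y hy, X.v_eq_one, one_mul] at e
  · have h1 := e4 y hy
    rw [he _ (D.tY y hy), ← one_mul (b y), ← key y hy] at h1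
    have h2 := vsq _ (sq y hy)
    rw [eq_inv_iff_mul_eq_one, ← h2]
    nth_rw 1 [h1]
    rw [cj, cj, X.tinv]; group

namespace QZ

variable {X : Fr G F} {τ : F ≃+* F} {s : G} {Y : Subgroup G}

theorem Y_comm (D : X.Z4 τ s Y) {x y : G} (hx : x ∈ Y) (hy : y ∈ Y) : x * y = y * x := by
  have := D.inv _ (mul_mem hx hy)
  rw [cj_mul, D.inv x hx, D.inv y hy, ← _root_.mul_inv_rev, _root_.inv_inj] at this
  exact this.symm

theorem sq_surj (D : X.Z4 τ s Y) (c : F) : ∃ y ∈ Y, y * y = X.v c := by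
  let f : Y →* X.V := MonoidHom.mk' (fun y => ⟨y * y, D.sq y y.2⟩) fun x y => Subtype.ext (by
    change (x : G) * y * (x * y) = x * x * (y * y)
    rw [mul_assoc, ← mul_assoc (y : G), ← Y_comm D x.2 y.2]; simp only [mul_assoc])
  have h1 : Nat.card f.ker ≤ 4 := by
    rw [← D.four, ← X.card_V]
    exact Nat.card_le_card_of_injective
      (fun y : f.ker => (⟨y.1, D.om _ y.1.2 (congrArg Subtype.val y.2)⟩ : X.V))
      fun x y e => Subtype.ext (Subtype.ext (congrArg (fun u : X.V => (u : G)) e))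
  have h2 := f.ker.card_mul_index
  rw [index_ker, D.card] at h2
  have h3 : f.range = ⊤ := eq_top_of_le_card _ (by
    rw [X.card_V, D.four]
    by_contra! hc
    have := Nat.mul_le_mul h1 (Nat.le_of_lt_succ hc)
    omega)
  obtain ⟨y, hy⟩ := h3.ge (mem_top ⟨X.v c, X.v_mem_V c⟩)
  exact ⟨y, y.2, congrArg Subtype.val hy⟩

theorem card_filter {f : M → G} (hf : Function.Injective f) (p : M → Prop) [DecidablePred p]
    {H : Subgroup G} (h : ∀ x, p x → f x ∈ H) : (Finset.univ.filter p).card ≤ Nat.card H := by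
  rw [← Fintype.card_subtype, ← Nat.card_eq_fintype_card]
  exact Nat.card_le_card_of_injective (fun x : {x // p x} => (⟨f x, h x x.2⟩ : H))
    fun x y e => Subtype.ext (hf (congrArg Subtype.val e))

theorem d_w : ∀ i j : Fin 4, pw (1, 0, false, false) i = pw (0, 3, false, false) j →
    pw (1, 0, false, false) i = (0, 0, false, false) := by decide +kernel

theorem d_z : ∀ x : M, m x (2, 2, false, false) = m (2, 2, false, false) x := by decide +kernel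

/-- coordinates on `S` -/
structure Co (X : Fr G F) (τ : F ≃+* F) (s : G) (Y S : Subgroup G) (f : M → G) (ω : F) : Prop
    extends X.Z4 τ s Y where
  mul : ∀ x y, f (m x y) = f x * f y
  pow : ∀ x n, f (pw x n) = f x ^ n
  inj : Function.Injective f
  one : f (0, 0, false, false) = 1
  ft : f (0, 0, true, false) = X.t
  fs : f (0, 0, false, true) = s
  fz : f (2, 2, false, false) = X.v 1
  fw : f (2, 0, false, false) = X.v ω
  hω : ω * ω ≠ ω
  memS : ∀ x, x ∈ S ↔ ∃ u, f u = x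
  memY : ∀ x, x ∈ Y ↔ ∃ i j, f (i, j, false, false) = x

theorem exists_Co (D : X.Z4 τ s Y) : ∃ S f ω, Co X τ s Y S f ω := by
  obtain ⟨ω, w1, w0, w2, -⟩ := exists_omega D.four
  have c2 := X.char
  obtain ⟨a, ha, aa⟩ := sq_surj D ω
  have hb := D.sY a ha
  set b := cj s a with hb'
  have bb : b * b = X.v (ω + 1) := by rw [hb', ← cj_mul, aa, D.e_v, w1]
  have ab : a * a * (b * b) = X.v 1 := by
    rw [aa, bb, ← X.v_add]; congr 1; linear_combination ω * c2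
  have E : Md a b X.t s := ⟨by rw [show 4 = 2 * 2 from rfl, pow_mul, pow_two, pow_two, aa, X.v_sq],
    Y_comm D ha hb, X.tt, D.ee, cj_eq_iff.1 D.e_t, D.inv a ha, rfl⟩
  have hA : ∀ i j, A a b i j ∈ Y := fun i j => mul_mem (pow_mem ha _) (pow_mem hb _)
  have nY : ∀ u ∈ Y, u * u = 1 → u ∈ X.A0 := fun u hu e => X.V_le_A0 (D.om u hu e)
  have inj := E.inj (by
    rintro ⟨i, j, e, d⟩ h
    have h1 : (if e then X.t else 1) * (if d then s else 1) ∈ Y := by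
      rw [ψ, mul_assoc] at h
      rw [eq_inv_of_mul_eq_one_right h]
      exact inv_mem (hA i j)
    cases e <;> cases d
    · obtain ⟨rfl, rfl⟩ := E.A_one (by rwa [aa, Ne, X.v_eq_one])
        (by rw [bb, Ne, X.v_eq_one]; exact fun e => w2 (by linear_combination e - c2))
        (by rw [ab, Ne, X.v_eq_one]; exact one_ne_zero) (by simpa [ψ] using h)
      rfl
    · exact absurd (nY _ (by simpa using h1) D.ee) D.e_A0
    · exact absurd (nY _ (by simpa using h1) X.tt) X.t_A0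
    · exact absurd (nY _ (by simpa using h1) D.tmul.ee) D.tmul.e_A0)
  obtain ⟨S, hS⟩ := Bas.sub_ind (fun x => ∃ u, ψ a b X.t s u = x) ⟨_, Md.ψ_one⟩ (by
    rintro _ _ ⟨x, rfl⟩ ⟨y, rfl⟩; exact ⟨_, E.ψ_mul x y⟩)
  have hψ : ∀ i j, ψ a b X.t s (i, j, false, false) = A a b i j := fun i j => by simp [ψ]
  refine ⟨S, ψ a b X.t s, ω, D, E.ψ_mul, E.ψ_pw, inj, Md.ψ_one, by simp [ψ, A], by simp [ψ, A],
    by rw [hψ, ← ab, ← sq, ← sq]; rfl, by rw [hψ, ← aa, ← sq, ← mul_one (a ^ 2), ← pow_zero b]; rfl,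
    fun e => one_ne_zero (α := F) (by linear_combination e - w1), hS,
    fun x => ⟨fun hx => ?_, by rintro ⟨i, j, rfl⟩; exact hψ i j ▸ hA i j⟩⟩
  obtain ⟨⟨i, j⟩, e⟩ := (Function.Injective.bijective_of_nat_card_le
    (f := fun p : ZMod 4 × ZMod 4 => (⟨ψ a b X.t s (p.1, p.2, false, false), hψ _ _ ▸ hA _ _⟩ : Y))
    (fun p q e => by
      have := inj (congrArg Subtype.val e)
      exact Prod.ext (congrArg (fun x : M => x.1) this) (congrArg (fun x : M => x.2.1) this))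
    (by rw [D.card, Nat.card_prod, Nat.card_zmod])).2 ⟨x, hx⟩
  exact ⟨i, j, congrArg Subtype.val e⟩

namespace Co

variable {S : Subgroup G} {f : M → G} {ω : F} (D : Co X τ s Y S f ω)
include D

theorem fS (x : M) : f x ∈ S := (D.memS _).2 ⟨x, rfl⟩

theorem fY (i j : ZMod 4) : f (i, j, false, false) ∈ Y := (D.memY _).2 ⟨i, j, rfl⟩

theorem card_S : Nat.card S = 64 := by
  rw [← Nat.card_eq_of_bijective (fun x : M => (⟨f x, D.fS x⟩ : S))
    ⟨fun x y e => D.inj (congrArg Subtype.val e), fun x => by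
      obtain ⟨u, e⟩ := (D.memS x).1 x.2
      exact ⟨u, Subtype.ext e⟩⟩]
  simp

theorem pgS : IsPGroup 2 S := pgrp (n := 6) D.card_S

theorem YS : Y ≤ S := fun y hy => by
  obtain ⟨i, j, rfl⟩ := (D.memY y).1 hy
  exact D.fS _

theorem TS : X.T ≤ S := fun x hx => by
  have hE : X.E ≤ S := adj_le (D.VY.trans D.YS) (D.ft ▸ D.fS _)
  rcases (QN.iT D.R2 D.toQ4).cases hx with h | ⟨k, hk, rfl⟩
  exacts [hE h, mul_mem (D.fs ▸ D.fS _) (hE hk)]

theorem comm {x y : M} : f x * f y = f y * f x ↔ m x y = m y x := by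
  rw [← D.mul, ← D.mul, D.inj.eq_iff]

theorem sq1 {x : M} : f x * f x = 1 ↔ m x x = (0, 0, false, false) := by
  rw [← D.mul, ← D.one, D.inj.eq_iff]

theorem memY' {x : G} (hx : x ∈ S) : x ∈ Y ↔ ∀ u ∈ S, cj x (u * u) = u * u := by
  obtain ⟨x, rfl⟩ := (D.memS x).1 hx
  constructor
  · intro h u hu
    obtain ⟨u, rfl⟩ := (D.memS u).1 hu
    obtain ⟨i, j, e⟩ := (D.memY _).1 h
    rw [← e, ← D.mul, cj_eq_iff, D.comm, d_sq]
  · intro h
    have h1 := h _ (D.fS (1, 0, false, true))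
    have h2 := h _ (D.fS (1, 0, true, true))
    rw [← D.mul, cj_eq_iff, D.comm] at h1 h2
    obtain ⟨i, j, e, d⟩ := x
    obtain ⟨rfl, rfl⟩ := d_Y _ ⟨h1, h2⟩
    exact D.fY i j

theorem syl : Syl S ⊤ := by
  by_contra hS
  obtain ⟨y, -, y1, y2, y3⟩ := exists_grow D.pgS le_top hS
  have I := idx_adj y2 (mem_norm.1 y1) y3
  have hP := pg_idx I D.pgS
  have nY : ∀ g ∈ normalizer (S : Set G), ∀ u ∈ Y, cj g u ∈ Y := fun g hg u hu =>
    (D.memY' (mem_norm.1 hg _ (D.YS hu))).2 fun w hw => by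
      rw [← cj_inv_cj g w, ← cj_mul, cj_cj,
        (D.memY' (D.YS hu)).1 hu _ (mem_norm.1 (inv_mem hg) _ hw)]
  have hts : f (0, 0, true, true) = X.t * s := by rw [← D.ft, ← D.fs, ← D.mul]; rfl
  obtain ⟨⟨i, j, e, d⟩, ht⟩ := (D.memS _).1 (mem_norm.1 y1 _ (D.ft ▸ D.fS _ : X.t ∈ S))
  obtain ⟨rfl, rfl⟩ := d_t (i, j, e, d) (D.sq1.1 (ht ▸ cj_sq X.tt)) (D.sq1.1 (by
    rw [D.mul, ht, ← cj_inv_cj y (f (1, 0, false, false)), ← cj_mul]
    refine cj_sq ?_
    have := D.inv _ (nY _ (inv_mem y1) _ (D.fY 1 0))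
    rw [cj, X.tinv, eq_inv_iff_mul_eq_one] at this
    simpa only [mul_assoc] using this))
  have htY : X.t * cj y X.t ∈ Y := by
    rw [← ht]
    nth_rw 1 [← D.ft]
    rw [← D.mul]; exact D.fY _ _
  obtain ⟨⟨k, l, e, d⟩, hs⟩ := (D.memS _).1 (mem_norm.1 y1 _ (D.fs ▸ D.fS _ : s ∈ S))
  have nA : ∀ u ∈ Y, u * u = 1 → u ∈ X.A0 := fun u hu e => X.V_le_A0 (D.om u hu e)
  have hd : d = true := by
    cases d
    · cases e
      · have := nY _ (inv_mem y1) _ (hs ▸ D.fY k l)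
        rw [inv_cj_cj] at this
        exact absurd (nA _ this D.ee) D.e_A0
      · have : cj y (X.t * s) ∈ Y := by rw [cj_mul, ← ht, ← hs, ← D.mul]; exact D.fY _ _
        have := nY _ (inv_mem y1) _ this
        rw [inv_cj_cj] at this
        exact absurd (nA _ this D.tmul.ee) D.tmul.e_A0
    · rfl
  subst hd
  obtain ⟨n, hn⟩ := d_s (k, l, e, true) (D.sq1.1 (hs ▸ cj_sq D.ee)) rfl
  have hn' := congrArg f hn
  rw [D.mul, D.mul, hs, ← mul_inv_eq_iff_eq_mul, ← cj] at hn'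
  cases e
  · rw [D.fs] at hn'
    set y' := (f (n, 0, false, false))⁻¹ * y with hy'
    have c1 : cj y' s = s := by rw [hy', mul_cj, ← hn', inv_cj_cj]
    have c3 : y' ∉ S := fun h => y2 ((S.mul_mem_cancel_left (inv_mem (D.fS _))).1 h)
    have c4 := card_filter D.inj (fun x => m x (0, 0, false, true) = m (0, 0, false, true) x)
      (H := S ⊓ centralizer {s}) fun x hx => ⟨D.fS x, mem_cen.2 (cj_eq_iff.2 (D.fs ▸ D.comm.2 hx))⟩
    rw [d_cs] at c4
    have := X.cardΩ D.sΩ (pg_le hP (inf_le_left (b := centralizer {s}))) fun x hx => mem_cen.1 hx.2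
    rw [QN.card_T D.R2 D.toQ4] at this
    have c5 : y' ∈ adj S y ⊓ centralizer {s} :=
      ⟨(adj S y).mul_mem (inv_mem (I.le (D.fS _))) I.mem, mem_cen.2 c1⟩
    rw [← eq_of_le_of_card_ge (inf_le_inf_right (centralizer {s}) I.le) (this.trans c4)] at c5
    exact c3 c5.1
  · rw [hts] at hn'
    have h1 : X.Ω (X.t * s) := (X.Ω_cj _).1 (hn' ▸ (X.Ω_cj y).2 D.sΩ)
    obtain ⟨c, hc⟩ := X.mem_V.1 (D.alt.resolve_left (fun h => h h1) _ htY (by
      rw [X.ttu]; exact (X.Ω_cj y).2 X.Ω_t))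
    obtain ⟨u, hu, e⟩ := sq_surj D.toZ4 c
    have h2 : cj (u * y) X.t = X.t := by
      have h3 := D.inv u hu
      rw [cj, X.tinv, eq_inv_iff_mul_eq_one] at h3
      rw [mul_cj, ← X.ttu (cj y X.t), hc, ← e, cj]
      calc _ = X.t * (X.t * u * X.t * u) := by rw [← X.ttu (_ * _ * u⁻¹)]; group
        _ = _ := by rw [h3, mul_one]
    exact y2 ((S.mul_mem_cancel_left (D.YS hu)).1
      (D.TS (X.infT hP (D.TS.trans I.le) (mul_mem (I.le (D.YS hu)) I.mem) h2)))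

theorem hts : f (0, 0, true, true) = X.t * s := by rw [← D.ft, ← D.fs, ← D.mul]; rfl

theorem memL (h : X.t ∉ X.L) {x : M} : f x ∈ X.L ↔ x.2.2.1 = x.2.2.2 := by
  obtain ⟨i, j, e, d⟩ := x
  have h1 : f (i, j, e, d) = f (i, j, false, false) * f (0, 0, e, d) := by
    rw [← D.mul]; congr 1; simp [m, sg]
  have h2 : s ∉ X.L := fun e => h ((X.Ω_L D.sΩ).1 e)
  rw [h1, X.L.mul_mem_cancel_left (D.YL (D.fY i j))]
  cases e <;> cases d
  · simp [D.one]
  · simp [D.fs, h2]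
  · simp [D.ft, h]
  · simp [D.hts, X.mul_mem_L h, h, h2]

theorem quat (h : X.t ∉ X.L) {Q : Subgroup G} (hQ : Q ≤ S ⊓ X.L)
    (h1 : ∀ x ∈ Q, x * x = 1 → x = 1 ∨ x = X.v 1) (h2 : ∃ x ∈ Q, ∃ y ∈ Q, x * y ≠ y * x) :
    X.v ω * (X.t * s) ∈ Q ∧ Nat.card Q = 8 := by
  have gd : ∀ x, f x ∈ Q → good x := fun x hx e => by
    have := h1 _ hx (D.sq1.2 e)
    rwa [← D.one, ← D.fz, D.inj.eq_iff, D.inj.eq_iff] at this
  have hL : ∀ x, f x ∈ Q → x.2.2.1 = x.2.2.2 := fun x hx => (D.memL h).1 (hQ hx).2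
  have mm : ∀ {x y}, f x ∈ Q → f y ∈ Q → f (m x y) ∈ Q := fun a b => D.mul _ _ ▸ mul_mem a b
  have A : ∀ x y, f x ∈ Q → f y ∈ Q → m x y ≠ m y x → q8 x ∧ q8 y := fun x y a b e =>
    d_A x y (hL x a) (hL y b) e (gd x a) (gd y b) (gd _ (mm a b)) (gd _ (mm a (mm a b)))
      (gd _ (mm (mm a b) b)) (gd _ (mm a (mm a (mm a b))))
  obtain ⟨x, hx, y, hy, e⟩ := h2
  obtain ⟨x, rfl⟩ := (D.memS x).1 (hQ hx).1
  obtain ⟨y, rfl⟩ := (D.memS y).1 (hQ hy).1
  rw [Ne, D.comm] at e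
  obtain ⟨q1, q2⟩ := A x y hx hy e
  have key : ∀ g, f g ∈ Q ↔ q8 g := fun g => by
    refine ⟨fun hg => ?_, fun hg => ?_⟩
    · by_cases a : m g x = m x g
      · by_cases b : m g y = m y g
        · exact d_B x y q1 q2 e g (hL g hg) a b (gd g hg) (gd _ (mm hg hx))
        · exact (A g y hg hy b).1
      · exact (A g x hg hx a).1
    · obtain ⟨i, j, rfl⟩ := d_C x y q1 q2 e g hg
      rw [D.mul, D.pow, D.pow]
      exact mul_mem (pow_mem hx _) (pow_mem hy _)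
  refine ⟨?_, ?_⟩
  · rw [← D.fw, ← D.hts, ← D.mul, key]; decide
  · rw [← d_q8, ← Fintype.card_subtype, ← Nat.card_eq_fintype_card]
    exact (Nat.card_eq_of_bijective (fun u : {u // q8 u} => (⟨f u, (key u).2 u.2⟩ : Q))
      ⟨fun a b e => Subtype.ext (D.inj (congrArg Subtype.val e)), fun g => by
        obtain ⟨u, hu⟩ := (D.memS g).1 (hQ g.2).1
        exact ⟨⟨u, (key u).1 (hu ▸ g.2)⟩, Subtype.ext hu⟩⟩).symm

theorem ord {x : M} {n : ℕ} (h1 : pw x (2 ^ n) ≠ (0, 0, false, false))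
    (h2 : pw x (2 ^ (n + 1)) = (0, 0, false, false)) : orderOf (f x) = 2 ^ (n + 1) :=
  orderOf_eq_prime_pow (by rw [← D.pow, ← D.one, D.inj.eq_iff]; exact h1)
    (by rw [← D.pow, h2, D.one])

theorem wr (h : X.t ∉ X.L) : Cfsg.IsWreathed (S ⊓ X.L : Subgroup G) := by
  have I : Idx (S ⊓ X.L) S X.t := ⟨inf_le_left, D.ft ▸ D.fS _, fun e => h e.2, fun x hx => by
    rw [X.tinv]
    exact (X.top x).imp (fun e => ⟨hx, e⟩) fun e => ⟨mul_mem (D.ft ▸ D.fS _) hx, e⟩⟩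
  have c := I.card
  rw [D.card_S] at c
  let g : ∀ x : M, x.2.2.1 = x.2.2.2 → (S ⊓ X.L : Subgroup G) := fun x e =>
    ⟨f x, D.fS x, (D.memL h).2 e⟩
  refine ⟨2, le_rfl, by omega, g (1, 0, false, false) rfl, g (0, 3, false, false) rfl,
    g (0, 0, true, true) rfl, ?_, Subtype.ext (D.comm.2 (by decide)), ?_, ?_, ?_⟩
  · rw [← orderOf_coe]; exact D.ord (n := 1) (by decide) (by decide)
  · refine (eq_bot_iff_forall _).2 fun u hu => ?_
    have o : ∀ x : M, ∀ e, pw x 4 = (0, 0, false, false) → u ∈ zpowers (g x e) →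
        ∃ i : Fin 4, (u : G) = f (pw x i) := fun x e h4 hu => by
      obtain ⟨k, rfl⟩ := mem_powers_iff_mem_zpowers.2 hu
      refine ⟨⟨k % 4, Nat.mod_lt _ (by norm_num)⟩, ?_⟩
      rw [D.pow, ← pow_eq_pow_mod k (by rw [← D.pow, h4, D.one])]
      rfl
    obtain ⟨i, hi⟩ := o (1, 0, false, false) rfl (by decide) hu.1
    obtain ⟨j, hj⟩ := o (0, 3, false, false) rfl (by decide) hu.2
    have := D.inj (hi.symm.trans hj)
    exact Subtype.ext (hi.trans ((congrArg f (d_w i j this)).trans D.one))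
  · rw [← orderOf_coe]; exact D.ord (n := 0) (by decide) (by decide)
  · rw [mul_inv_eq_iff_eq_mul]
    refine Subtype.ext ?_
    change f _ * f _ = f _ * f _
    rw [← D.mul, ← D.mul]; rfl

theorem m12 (h : X.t ∈ X.L) : Cfsg.Spor.IsoM12 X.L := by
  have e : X.L ≃* G := (MulEquiv.subgroupCongr (X.L_top h)).trans topEquiv
  have := X.simple
  have := e.symm.isSimpleGroup
  obtain ⟨P, hP⟩ := D.pgS.exists_le_sylow
  have hP' := D.syl.eq_of_le P.isPGroup' le_top hP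
  obtain ⟨i⟩ := Cfsg.Agent.S3296.result (G := G) (fun _ => X.Lna inferInstance) P
    (hP' ▸ D.card_S) (f (1, 0, true, true)) (hP' ▸ D.fS _) (D.ord (n := 2) (by decide) (by decide))
    (fun x hx c => by
      obtain ⟨x, rfl⟩ := (D.memS x).1 (hP' ▸ hx)
      obtain ⟨i, rfl⟩ := d_g x (D.comm.1 c)
      rw [D.pow]; exact pow_mem (mem_zpowers _) _)
    (fun k hk => by
      obtain ⟨j, rfl⟩ : ∃ j : Fin 4, k = 2 * j + 1 := by
        rcases hk with rfl | rfl | rfl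
        exacts [⟨1, rfl⟩, ⟨2, rfl⟩, ⟨3, rfl⟩]
      obtain ⟨x, e⟩ := d_g' j
      exact ⟨f x, hP' ▸ D.fS x, by rw [mul_inv_eq_iff_eq_mul, ← D.pow, ← D.mul, ← D.mul, e]⟩)
    ⟨X.t, X.v 1, orderOf_eq_prime (by rw [pow_two, X.tt]) X.t1,
      orderOf_eq_prime (by rw [pow_two, X.v_sq]) (fun e => one_ne_zero (X.v_eq_one.1 e)), D.nV 1⟩
  exact ⟨e.trans i⟩

end Co

end QZ

theorem Fr.Z4.main {X : Fr G F} {τ : F ≃+* F} {s : G} {Y : Subgroup G} (D : X.Z4 τ s Y) :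
    Four X.L := by
  obtain ⟨S, f, ω, C⟩ := QZ.exists_Co D
  by_cases h : X.t ∈ X.L
  · exact Or.inl (C.m12 h)
  · refine D.tmul.aut3 h (C.hts ▸ (C.memL h).2 rfl) (X.syl_L C.syl) (fun x hx => ?_)
      (Or.inr (C.wr h)) C.hω fun Q hQ => C.quat h hQ
    obtain ⟨x, rfl⟩ := (C.memS x).1 hx.1
    rw [← C.fz, cj_eq_iff, C.comm, QZ.d_z]

end H25.L2B
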