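import Cfsg.Agent.Lib.L2B.Crd
import Cfsg.Agent.Lib.L2B.WrB
import Cfsg.Agent.Lib.L2B.WrC
import Cfsg.Agent.Lib.L2B.End
import Cfsg.Agent.Lib.L2B.Trp
import Cfsg.Agent.Lib.U3S.GenA

/-! The double case with `q ≠ 4`: `Y` is strongly closed. -/

set_option autoImplicit false
set_option linter.unusedSectionVars false

namespace H25.L2B

open Subgroup H4.YM H4.TL Matrix MatrixGroups

variable {G : Type*} [Group G] [Finite G] {F : Type*} [Field F] [Finite F]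

namespace WrG

/-- the elements that centralise `B` and fix `w B` -/
def CW (B : Subgroup G) (w : G) : Subgroup G where
  carrier := {x | (∀ u ∈ B, cj x u = u) ∧ w⁻¹ * cj x w ∈ B}
  one_mem' := ⟨fun _ _ => one_cj _, by rw [one_cj, inv_mul_cancel]; exact one_mem _⟩
  mul_mem' := fun {x x'} h h' => ⟨fun u hu => by rw [mul_cj, h'.1 u hu, h.1 u hu], by
    have := mul_mem h.2 h'.2
    rw [← h.1 _ h'.2, cj_mul, cj_inv, mul_assoc, mul_inv_cancel_left, ← mul_cj] at this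
    exact this⟩
  inv_mem' := fun {x} h => ⟨fun u hu => inv_cj_eq.2 (h.1 u hu), by
    have := inv_mem h.2
    rwa [← inv_cj_eq.2 (h.1 _ this), _root_.mul_inv_rev, inv_inv, cj_mul, cj_inv, inv_cj_cj] at this⟩

theorem cw_mem {Z : Subgroup G} (hZ : ∀ z ∈ Z, z * z = 1) {w y : G} (hw : ∀ z ∈ Z, cj w z ∈ Z)
    (ww : w * w = 1) (hy : y ∈ Z) : w⁻¹ * cj y w ∈ Z ⊓ centralizer {w} := by
  have e : w⁻¹ * cj y w = cj w y * y := by
    simp [cj, inv_eq_of_mul_eq_one_right ww, inv_eq_of_mul_eq_one_right (hZ y hy), mul_assoc]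
  rw [e]
  refine ⟨mul_mem (hw y hy) hy, mem_cen.2 (cj_comm.1 ?_)⟩
  rw [cj_mul, ← mul_cj, ww, one_cj]
  exact comm_of_sq (hZ y hy) (hZ _ (hw y hy)) (hZ _ (mul_mem hy (hw y hy)))

theorem card_le2 {U K : Subgroup G} (h : ∀ u ∈ U, ∀ w ∈ U, u ∈ K ∨ w ∈ K ∨ u * w ∈ K) :
    Nat.card U ≤ 2 * Nat.card (U ⊓ K : Subgroup G) := by
  by_cases k : U ≤ K
  · rw [inf_eq_left.2 k]; omega
  · obtain ⟨u, hu, k⟩ := SetLike.not_le_iff_exists.1 k
    exact (Idx.card ⟨inf_le_left, hu, fun e => k e.2, fun x hx =>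
      ((h _ (inv_mem hu) x hx).resolve_left fun e => k (inv_mem_iff.1 e)).imp (⟨hx, ·⟩)
        (⟨mul_mem (U.inv_mem hu) hx, ·⟩)⟩).le

theorem cm_le {g : G} {K L : Subgroup G} : cm g K ≤ L ↔ ∀ x ∈ K, cj g x ∈ L :=
  ⟨fun h _ hx => h (cj_mem_cm.2 hx), fun h x hx => cj_inv_cj g x ▸ h _ (mem_cm.1 hx)⟩

theorem cm_inv_cm (g : G) (K : Subgroup G) : cm g⁻¹ (cm g K) = K := cm_inv_eq rfl

theorem le_norm_cm {g : G} {K L : Subgroup G} (h : L ≤ normalizer (cm g K : Set G)) :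
    cm g⁻¹ L ≤ normalizer (K : Set G) := by
  rw [← cm_norm] at h
  exact cm_le.2 fun x hx => mem_cm.1 (h hx)

variable {X : Fr G F} {Y : Subgroup G} {b : G → F} {s : G} {τ : F ≃+* F} {y : F → G}
  (D : X.Crd Y b s τ y) (h4 : Nat.card F ≠ 4)
include D h4

theorem big : 16 ≤ Nat.card F := by
  obtain ⟨n, hn, e⟩ := X.cardF
  have h1 := fix_sq D.τ1 D.ττ
  generalize Set.ncard _ = m at h1
  by_contra! k
  have : n < 4 := (Nat.pow_lt_pow_iff_right one_lt_two).1 (e ▸ k)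
  have : m < 4 := by nlinarith
  interval_cases n <;> interval_cases m <;> omega

theorem one {Z : Subgroup G} (g : G) (e : Z = cm g Y) (ht : ∀ z ∈ Z, cj X.t z ∈ Z) :
    ∃ c, cj c X.t = X.t ∧ cm c Y = Z := by
  have P := D.toPure
  have sq : ∀ z ∈ Z, z * z = 1 := fun z hz => by
    rw [← cj_inv_cj g z]; exact cj_sq (D.sq (mem_cm.1 (e ▸ hz)))
  have nΩ : ∀ z ∈ Z, ¬ X.Ω z := fun z hz k => D.nΩ _ (mem_cm.1 (e ▸ hz)) ((X.Ω_cj _).2 k)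
  have cZ : Nat.card Z = Nat.card F ^ 2 := by rw [e, card_cm, D.cardY2]
  have c1 := H55.U3.card_le_fix_sq sq ht (by simp [X.tt])
  rw [cZ, Nat.pow_le_pow_iff_left two_ne_zero] at c1
  have ct : ∀ z ∈ Z ⊓ centralizer {X.t}, cj X.t z = z := fun z hz => cj_comm.1 (mem_cen.1 hz.2)
  have I := idx_adj (K := Z ⊓ centralizer {X.t}) (fun k => nΩ _ k.1 X.Ω_t)
    (fun z hz => by rwa [ct z hz]) (X.tt ▸ one_mem _)
  have s2 : ∀ x ∈ adj (Z ⊓ centralizer {X.t}) X.t, x * x = 1 := fun x hx => by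
    rcases I.cases hx with k | ⟨k, hk, rfl⟩
    · exact sq x k.1
    · rw [mul_assoc, ← mul_assoc k, ← cj_eq_iff.1 (ct k hk), mul_assoc, sq k hk.1, mul_one, X.tt]
  obtain ⟨c, hc, le⟩ := X.sylΩ X.Ω_t (pg_of_sq s2) fun x hx => mem_cen.1
    (adj_le inf_le_right (mem_cen.2 (cj_eq_iff.2 rfl)) hx)
  have eE := X.uniqE (.inl h4) (cm_le.2 fun x hx => mem_cm.1 (le hx))
    (fun x hx => by rw [← inv_cj_cj c x, ← inv_inv c]; exact cj_sq (s2 _ (mem_cm.1 hx)))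
    (by rw [card_cm, I.card]; omega)
  have nΩ' : ∀ z ∈ cm c⁻¹ Z, ∀ a, z ≠ X.t * X.v a := fun z hz a k =>
    nΩ _ (mem_cm.1 hz) ((X.Ω_cj _).2 (k ▸ P.tV a))
  have eV : cm c⁻¹ (Z ⊓ centralizer {X.t}) = X.V := cm_eq_of_le (fun z hz => by
    obtain ⟨a, k | k⟩ := X.mem_E.1 (eE ▸ cj_mem_cm.2 (le_adj hz))
    · exact k ▸ X.v_mem_V a
    · exact (nΩ' _ (cj_mem_cm.2 hz.1) a k).elim) (X.card_V ▸ c1)
  rw [cm_inf, cm_cen, inv_cj_eq.2 hc] at eV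
  have sq' : ∀ z ∈ cm c⁻¹ Z, z * z = 1 := fun z hz => by
    rw [← cj_inv_cj c⁻¹ z]; exact cj_sq (sq _ (mem_cm.1 hz))
  refine ⟨c, hc, ?_⟩
  rw [← cm_inv_cm c⁻¹ Z, inv_inv]
  refine congrArg _ (eq_of_le_of_card_ge (fun w hw => ?_) (by rw [card_cm, cZ, D.cardY2])).symm
  have wv : ∀ u ∈ X.V, cj w u = u := fun u hu => by
    have hu := (eV ▸ hu).1
    exact cj_eq_iff.2 (comm_of_sq (sq' w hw) (sq' u hu) (sq' _ (mul_mem hw hu)))
  have wt : X.t⁻¹ * cj w X.t ∈ X.V := eV ▸ cw_mem sq' (fun z hz => by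
    rw [← inv_cj_eq.2 hc, ← cj_inv_cj c⁻¹ z, cj_cj]; exact cj_mem_cm.2 (ht _ (mem_cm.1 hz))) X.tt hw
  refine (D.NQ_two (mem_norm.2 (adj_le_comap (fun u hu => by rw [wv u hu]; exact le_adj hu)
    (X.iE.mem_iff.2 (.inr wt)))) (fun a => wv _ (X.v_mem_V a)) (j := 1)
    (by simpa [pow_two] using sq' w hw)).resolve_right fun k => ?_
  obtain ⟨a, e⟩ := X.mem_V.1 (D.cenY _ k (cj_eq_iff.2 (by
    rw [mul_assoc, ← comm_of_sq X.tt (sq' w hw) (D.sq k)])))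
  exact nΩ' w hw a (by rw [← e, X.ttu])

theorem two {u : G} (hu : u ∈ normalizer (Y : Set G)) (k : X.Ω u) :
    ∃ n ∈ normalizer (Y : Set G), cj n X.t = u := by
  obtain ⟨g, rfl⟩ := X.Ω_iff.1 k
  obtain ⟨c, hc, e⟩ := one D h4 g⁻¹ rfl fun z hz => by
    rw [mem_cm, inv_inv] at hz ⊢
    rw [← cj_cj]; exact mem_norm.1 hu _ hz
  exact ⟨g * c, mem_norm_iff.2 (by rw [cm_mul, e, ← cm_mul, mul_inv_cancel, cm_one]), by rw [mul_cj, hc]⟩

theorem syl : ∃ S, Y ≤ S ∧ S ≤ normalizer (Y : Set G) ∧ Syl S ⊤ := by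
  obtain ⟨S, le, hS⟩ := exists_syl D.sylS.pg (sup_le le_normalizer (X.T_le_N1.trans D.N1_NY))
  have YS := le_sup_left.trans le
  have tS := le (mem_sup_right (X.E_le_T self_mem_adj))
  refine ⟨S, YS, hS.le, (hS.mono le_normalizer fun g hg => ?_).top_of_norm⟩
  obtain ⟨c, hc, e⟩ := one D h4 g rfl fun z hz => by
    rw [mem_cm] at hz ⊢
    rw [← cj_cj]; exact mem_norm.1 (hS.le (mem_norm.1 (inv_mem hg) _ tS)) _ hz
  have : c ∈ X.N1 := X.mem_N1.2 ⟨hc, D.wc c fun a => X.infT hS.pg (le_sup_right.trans le)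
    (cm_le.2 (fun x hx => mem_norm.1 hg x (YS hx)) (e ▸ cj_mem_cm.2 (D.AY (X.v_mem_V a))))
    (by rw [← hc, cj_cj, X.v_t, hc])⟩
  exact mem_norm_iff.2 (e ▸ mem_norm_iff.1 (D.N1_NY this))

variable {π : normalizer (Y : Set G) →* Equiv.Perm (F × F)} (hπ : X.Act Y y π)
include hπ

theorem π_cj (n m : normalizer (Y : Set G)) : π (cj n m) = cj (π n) (π m) := by simp [cj]

theorem lin : Lin X.char τ π.range := by
  have tN := D.N1_NY (X.E_le_N1 self_mem_adj)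
  have fN := D.N1_NY (CrdA.f0_N1 D.toDbl)
  refine ⟨D.τ1, D.ττ, ?_, ⟨⟨_, tN⟩, D.π_t hπ rfl⟩, fun k => ⟨⟨_, D.N1_NY (X.h_N1 k)⟩, D.π_h hπ rfl⟩,
    ⟨⟨_, fN⟩, D.π_f hπ rfl⟩, ?_, ?_⟩
  · rintro _ ⟨n, rfl⟩; exact D.π_add hπ n
  · rintro _ ⟨n, rfl⟩ k
    obtain ⟨m, hm, e⟩ := D.cen_tb hπ k
    exact e ▸ D.cen_form hπ hm
  · obtain ⟨n, hn, e⟩ := two D h4 (D.N1_NY (X.T_le_N1 (CrdA.T1_le D.sT))) D.sΩ
    refine ⟨_, ⟨⟨n, hn⟩, rfl⟩, ?_⟩
    rw [← D.π_t hπ (n := ⟨_, tN⟩) rfl, ← D.π_f hπ (n := ⟨_, fN⟩) rfl, ← map_mul, ← π_cj D h4 hπ]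
    exact congrArg π (Subtype.ext (e.trans (X.ttu s).symm))

theorem πsq (n : normalizer (Y : Set G)) (e : (n : G) * n = 1) : π n * π n = 1 := by
  rw [← map_mul, show n * n = 1 from Subtype.ext e, map_one]

theorem ker {n : normalizer (Y : Set G)} (k : (n : G) * n = 1) (e : π n = 1) : (n : G) ∈ Y :=
  D.cen_two ((D.π_eq_one hπ).1 e) (j := 1) (by simpa [pow_two] using k)

variable (W : Wr X.char τ π.range)
include W

theorem dich {u w : G} (hu : u ∈ normalizer (Y : Set G)) (hw : w ∈ normalizer (Y : Set G))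
    (uu : u * u = 1) (ww : w * w = 1) (c : u * w = w * u) : (u ∈ Y ∨ w ∈ Y ∨ u * w ∈ Y) ∨
      ∃ n ∈ normalizer (Y : Set G), cj n (X.t * s) = u ∨ cj n (X.t * s) = w ∨ cj n (X.t * s) = u * w := by
  refine or_iff_not_imp_left.2 fun k => ?_
  push Not at k
  have uw : u * w * (u * w) = 1 := by rw [mul_assoc, ← mul_assoc w, ← c, mul_assoc, ww, mul_one, uu]
  have sq := πsq D h4 hπ
  obtain ⟨_, ⟨x, rfl⟩, e | e | e⟩ := W.four _ ⟨⟨u, hu⟩, rfl⟩ _ ⟨⟨w, hw⟩, rfl⟩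
    ⟨sq _ uu, fun e => k.1 (ker D h4 hπ uu e), sq _ ww, fun e => k.2.1 (ker D h4 hπ ww e),
      fun e => k.2.2 (ker D h4 hπ (n := ⟨u, hu⟩ * ⟨w, hw⟩) uw (by rw [map_mul, e, sq _ ww])),
      by rw [← map_mul, ← map_mul]; exact congrArg π (Subtype.ext c)⟩
  · exact (D.lift_f hπ uu e.symm).imp fun _ h => ⟨h.1, .inl h.2⟩
  · exact (D.lift_f hπ ww e.symm).imp fun _ h => ⟨h.1, .inr (.inl h.2)⟩
  · exact (D.lift_f hπ (w := ⟨u, hu⟩ * ⟨w, hw⟩) uw ((map_mul ..).trans e.symm)).imp fun _ h => ⟨h.1, .inr (.inr h.2)⟩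

theorem small {w : G} (hw : w ∈ normalizer (Y : Set G)) (ww : w * w = 1) (k : w ∉ Y) :
    Nat.card (Y ⊓ centralizer {w} : Subgroup G) ^ 2 ≤ Nat.card F ^ 3 := by
  rw [D.card_fix hπ ⟨w, hw⟩]
  exact W.small _ ⟨_, rfl⟩ (πsq D h4 hπ _ ww) fun e => k (ker D h4 hπ ww e)

/-- weak closure -/
theorem wc {g : G} (k : cm g Y ≤ normalizer (Y : Set G)) : cm g Y = Y := by
  have sq : ∀ z ∈ cm g Y, z * z = 1 := fun z hz => by
    rw [← cj_inv_cj g z]; exact cj_sq (D.sq (mem_cm.1 hz))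
  have cc : ∀ z ∈ cm g Y, ∀ z' ∈ cm g Y, z * z' = z' * z := fun z hz z' hz' =>
    comm_of_sq (sq z hz) (sq z' hz') (sq _ (mul_mem hz hz'))
  have cZ : Nat.card (cm g Y) = Nat.card F ^ 2 := by rw [card_cm, D.cardY2]
  have le : ∀ u ∈ cm g Y, Nat.card (cm g Y ⊓ Y : Subgroup G) ≤ Nat.card (Y ⊓ centralizer {u} : Subgroup G) :=
    fun u hu => card_le_of_le fun z hz => ⟨hz.2, mem_centralizer_singleton_iff.2 (cc z hz.1 u hu)⟩
  have q := big D h4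
  refine eq_of_le_of_card_ge (fun u hu => by_contra fun uY => ?_) (card_cm g Y).ge
  by_cases c : ∃ n ∈ normalizer (Y : Set G), cj n (X.t * s) ∈ cm g Y
  · obtain ⟨n, hn, c⟩ := c
    have h1 := le _ c
    rw [← mem_norm_iff.1 hn, ← cm_cen, ← cm_inf, card_cm, mem_norm_iff.1 hn, D.free_card'
      (CrdA.f0_N1 D.toDbl) (CrdA.f0_sq D.toDbl) (CrdA.f0_v D.toDbl) D.τ1 rfl] at h1
    let f := π.comp (inclusion k)
    have h2 := f.ker.card_mul_index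
    rw [index_ker, cZ] at h2
    have h3 := W.rank f.range (fun _ ⟨z, e⟩ => ⟨_, e⟩) fun _ ⟨z, e⟩ => by
      rw [← e, ← map_mul, show z * z = 1 from Subtype.ext (sq z z.2), map_one]
    have h5 : Nat.card f.ker ≤ Nat.card (cm g Y ⊓ Y : Subgroup G) := by
      rw [← card_map_of_injective (cm g Y).subtype_injective]
      exact card_le_of_le fun _ ⟨z, hz, e⟩ => e ▸ ⟨z.2, ker D h4 hπ (n := inclusion k z) (sq z z.2) hz⟩
    nlinarith [Nat.mul_le_mul (h5.trans h1) h3]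
  · have h1 := card_le2 (K := Y) fun u hu w hw =>
      (dich D h4 hπ W (k hu) (k hw) (sq u hu) (sq w hw) (cc u hu w hw)).resolve_right
        fun ⟨n, hn, e⟩ => c ⟨n, hn, by rcases e with e | e | e <;> rw [e]; exacts [hu, hw, mul_mem hu hw]⟩
    have h2 := small D h4 hπ W (k hu) (sq u hu) uY
    have h3 := Nat.pow_le_pow_left (h1.trans (Nat.mul_le_mul_left 2 (le u hu))) 2
    rw [cZ, mul_pow] at h3
    have : 0 < Nat.card F ^ 3 := by positivity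
    nlinarith

theorem nrm {P : Subgroup G} (hP : IsPGroup 2 P) {g : G} (k : cm g Y ≤ P) :
    P ≤ normalizer (cm g Y : Set G) := by
  obtain ⟨S, YS, SN, hS⟩ := syl D h4
  obtain ⟨d, -, e⟩ := hS.conj hP le_top
  have := wc D h4 hπ W (g := d⁻¹ * g) (cm_le.2 fun x hx => SN (by
    rw [mul_cj]; exact mem_cm.1 (e (k (cj_mem_cm.2 hx)))))
  rw [cm_mul] at this
  rw [← cm_inv_eq this, inv_inv, ← cm_norm]
  exact fun x hx => mem_cm.2 (SN (mem_cm.1 (e hx)))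

theorem mv {g w : G} {B U : Subgroup G} (hw : w ∈ cm g Y) (hB : B ≤ cm g Y) (hU : IsPGroup 2 U)
    (k : U ≤ CW B w) : ∃ g', w ∈ cm g' Y ∧ B ≤ cm g' Y ∧ U ≤ normalizer (cm g' Y : Set G) := by
  have cc : ∀ z ∈ cm g Y, ∀ z' ∈ cm g Y, cj z z' = z' := fun z hz z' hz' => by
    rw [← cj_inv_cj g z, ← cj_inv_cj g z', cj_cj, cj_eq_iff.2 (D.Yc _ (mem_cm.1 hz) _ (mem_cm.1 hz'))]
  obtain ⟨P, le, S⟩ := exists_syl (pg_cm D.pgY g) (H := CW B w) fun z hz =>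
    ⟨fun u hu => cc z hz u (hB hu), by rw [cc z hz w hw, inv_mul_cancel]; exact one_mem _⟩
  obtain ⟨d, hd, e⟩ := S.conj hU k
  have b : B ≤ cm (d * g) Y := fun u hu => by rw [cm_mul, ← hd.1 u hu]; exact cj_mem_cm.2 (hB hu)
  refine ⟨d * g, ?_, b, e.trans (nrm D h4 hπ W (pg_cm S.pg d) (by rw [cm_mul]; exact map_mono le))⟩
  have := mul_mem (cm_mul d g Y ▸ cj_mem_cm.2 hw) (inv_mem (b hd.2))
  rwa [_root_.mul_inv_rev, inv_inv, mul_inv_cancel_left] at this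

theorem pair (g : G) : X.t * s ∉ cm g Y := fun k => by
  have fT := CrdA.T1_le (CrdA.f0_T1 D.toDbl)
  obtain ⟨g, k, -, e⟩ := mv D h4 hπ W k bot_le (pg_zpowers (k := 1) (x := X.t) (by simpa [pow_two] using X.tt))
    (zpowers_le.2 ⟨fun u hu => by rw [mem_bot.1 hu, cj_one], by
      rw [cj_comm.1 (X.T_t fT), inv_mul_cancel]; exact one_mem _⟩)
  obtain ⟨c, hc, e⟩ := one D h4 g rfl (mem_norm.1 (e (mem_zpowers _)))
  rw [← e, mem_cm] at k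
  have := X.C_A0 hc (X.V_le_A0 (D.cenY _ k (by
    nth_rewrite 2 [← inv_cj_eq.2 hc]
    rw [cj_cj, X.T_t fT, inv_cj_eq.2 hc])))
  rw [cj_inv_cj] at this
  obtain ⟨a, e⟩ := X.mem_V.1 (X.A0_T this fT)
  exact D.τ1 (RingEquiv.ext fun c => X.v_inj (by rw [← CrdA.f0_v D.toDbl, e, X.v_comm]; rfl))

theorem idx {g u w : G} (hu : u ∈ Y) (hw : w ∈ Y) (k : u ∈ normalizer (cm g Y : Set G))
    (k' : w ∈ normalizer (cm g Y : Set G)) : u ∈ cm g Y ∨ w ∈ cm g Y ∨ u * w ∈ cm g Y := by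
  rw [← cm_norm, mem_cm] at k k'
  simp only [mem_cm, cj_mul]
  refine (dich D h4 hπ W k k' (cj_sq (D.sq hu)) (cj_sq (D.sq hw))
    (by rw [← cj_mul, ← cj_mul, D.Yc u hu w hw])).resolve_right fun ⟨n, _, e⟩ =>
      pair D h4 hπ W (n⁻¹ * g⁻¹) ?_
  rw [cm_mul, mem_cm, inv_inv]
  rcases e with e | e | e <;> rw [e]
  exacts [cj_mem_cm.2 hu, cj_mem_cm.2 hw, cj_mul g⁻¹ u w ▸ cj_mem_cm.2 (mul_mem hu hw)]

theorem closed {g w : G} (hw : w ∈ cm g Y) (k : w ∈ normalizer (Y : Set G)) : w ∈ Y := by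
  by_contra wY
  have ww : w * w = 1 := by rw [← cj_inv_cj g w]; exact cj_sq (D.sq (mem_cm.1 hw))
  have cw : ∀ u ∈ Y, w⁻¹ * cj u w ∈ Y ⊓ centralizer {w} := fun u =>
    cw_mem (fun _ => D.sq) (mem_norm.1 k) ww
  have cY : ∀ u ∈ Y, ∀ u' ∈ Y, cj u u' = u' := fun u hu u' hu' => cj_eq_iff.2 (D.Yc u hu u' hu')
  obtain ⟨g1, h1, -, n1⟩ := mv D h4 hπ W hw bot_le (pg_le D.pgY (inf_le_left (b := centralizer {w})))
    fun u hu => ⟨fun u hu => by rw [mem_bot.1 hu, cj_one], by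
      rw [mem_cen.1 hu.2, inv_mul_cancel]; exact one_mem _⟩
  obtain ⟨g2, h2, -, n2⟩ := mv D h4 hπ W h1 (inf_le_right (a := Y))
    (pg_le D.pgY (inf_le_left (b := CW (Y ⊓ cm g1 Y) w))) inf_le_right
  have c1 := card_le2 (U := Y) (K := CW (Y ⊓ cm g1 Y) w) fun u hu u' hu' => by
    have : ∀ u ∈ Y, w⁻¹ * cj u w ∈ cm g1 Y → u ∈ CW (Y ⊓ cm g1 Y) w := fun u hu e =>
      ⟨fun z hz => cY u hu z hz.1, (cw u hu).1, e⟩
    refine (idx D h4 hπ W (cw u hu).1 (cw u' hu').1 (n1 (cw u hu)) (n1 (cw u' hu'))).imp (this u hu)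
      (.imp (this u' hu') fun e => this _ (mul_mem hu hu') ?_)
    rwa [← cY u hu _ (cw u' hu').1, cj_mul, cj_inv, mul_assoc, mul_inv_cancel_left, ← mul_cj] at e
  have c2 := card_le2 (U := Y ⊓ CW (Y ⊓ cm g1 Y) w) (K := cm g2 Y) fun u hu u' hu' => idx D h4 hπ W hu.1 hu'.1 (n2 hu) (n2 hu')
  have c3 := small D h4 hπ W k ww wY
  have q := big D h4
  rw [D.cardY2] at c1
  have e : Y ⊓ CW (Y ⊓ cm g1 Y) w ⊓ cm g2 Y = Y ⊓ centralizer {w} := by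
    refine eq_of_le_of_card_ge (fun z hz => ⟨hz.1.1, mem_cen.2 ?_⟩) ?_
    · rw [← cj_inv_cj g2 z, ← cj_inv_cj g2 w, cj_cj, cY _ (mem_cm.1 hz.2) _ (mem_cm.1 h2)]
    · have c4 := Nat.pow_le_pow_left (c1.trans (Nat.mul_le_mul_left 2 c2)) 2
      refine (Nat.pow_le_pow_iff_left two_ne_zero).1 ?_
      nlinarith [Nat.mul_le_mul_right (Nat.card F ^ 3) q]
  obtain ⟨g3, h3, -, n3⟩ := mv D h4 hπ W (B := Y ⊓ centralizer {w}) h2 (e ▸ inf_le_right) D.pgY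
    fun u hu => ⟨fun z hz => cY u hu z hz.1, cw u hu⟩
  rw [← inv_inv g3, cm_inv_eq (wc D h4 hπ W (le_norm_cm n3))] at h3
  exact wY h3

theorem auto : True := by have := @CW.eq_1.{0}; trivial

end WrG

theorem Fr.Crd.lie {X : Fr G F} {Y : Subgroup G} {b : G → F} {s : G} {τ : F ≃+* F} {y : F → G}
    (D : X.Crd Y b s τ y) (h : Nat.card F ≠ 4) : Lie2 X.L := by
  obtain ⟨π, hπ⟩ := D.exists_act
  obtain ⟨S, YS, SN, hS⟩ := WrG.syl D h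
  have q := WrG.big D h
  have c := D.cardY2
  have le : Y ≤ S ⊓ X.L := le_inf YS D.YL
  refine X.lie_of_elem (X.syl_L hS) (le_trans (by nlinarith) (card_le_of_le le)) le
    (fun e => by rw [e, card_bot] at c; nlinarith) (fun _ => D.sq) fun g _ w hw k => ?_
  rcases (WrG.lin D h hπ).swap q with H | ⟨x, H⟩
  · by_contra n
    have ww : cj g w * cj g w = 1 := cj_sq (D.sq hw)
    obtain ⟨_, ⟨x, rfl⟩, e⟩ := H _ ⟨⟨_, SN k.1⟩, rfl⟩
      (WrG.πsq D h hπ _ ww) fun e => n (WrG.ker D h hπ ww e)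
    obtain ⟨m, -, e⟩ := D.lift_t hπ ww e.symm
    exact D.nΩ w hw ((X.Ω_cj g).1 (X.Ω_iff.2 ⟨m, e⟩))
  · obtain ⟨κ, k1, k2, k3⟩ := H.comm
    exact WrG.closed D h hπ (H.wr k1 k2 k3) (cj_mem_cm.2 hw) (SN k.1)

end H25.L2B
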