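import Cfsg.Agent.Lib.L2B.Defs
import Cfsg.Agent.Lib.AutCl.PSLAut
import Cfsg.Agent.Lib.GL.Basic
import Cfsg.Agent.S1754

/-! Standard subgroups of type `SL₂(q)`, `q` even: reduction to `L⟨t⟩`. -/

set_option autoImplicit false

namespace H25.L2B

open Subgroup H4.YM H4.TL Matrix MatrixGroups

namespace Red

variable {F : Type*} [Field F]

theorem center_bot (h2 : (2 : F) = 0) : center SL(2, F) = ⊥ := by
  refine eq_bot_iff.2 fun s hs => ?_
  obtain ⟨r, h1, e⟩ := Matrix.SpecialLinearGroup.mem_center_iff.1 hs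
  have : r = 1 := by
    have : (r - 1) ^ 2 = 0 := by
      rw [Fintype.card_fin] at h1
      linear_combination h1 + (1 - r) * h2
    exact sub_eq_zero.1 (pow_eq_zero_iff two_ne_zero |>.1 this)
  exact Subtype.ext (by rw [← e, this, map_one]; rfl)

/-- `SL₂ ≅ PSL₂` in characteristic two -/
noncomputable def eqv (h2 : (2 : F) = 0) : SL(2, F) ≃* ProjectiveSpecialLinearGroup (Fin 2) F :=
  QuotientGroup.quotientBot.symm.trans (QuotientGroup.quotientMulEquivOfEq (center_bot h2).symm)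

theorem sl_aut [Finite F] (h2 : (2 : F) = 0) (α : SL(2, F) ≃* SL(2, F)) :
    ∃ (M : SL(2, F)) (τ : F ≃+* F), ∀ X, α X = cj M (fa τ X) := by
  obtain ⟨g, σ, h | ⟨h, -⟩⟩ := H67.psl_aut (by simp) (((eqv h2).symm.trans α).trans (eqv h2))
  swap
  · simp at h
  have hc : ringChar F = 2 := by
    have := CharTwo.of_one_ne_zero_of_two_eq_zero one_ne_zero h2
    exact ringChar.eq F 2
  obtain ⟨r, hr⟩ := FiniteField.isSquare_of_char_two hc g.val.det
  have hr0 : r ≠ 0 := fun e => g.det_ne_zero (by rw [hr, e, mul_zero])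
  let M : SL(2, F) := ⟨r⁻¹ • g.val, by
    rw [det_smul, hr, Fintype.card_fin]; field_simp⟩
  refine ⟨M, σ, fun X => (eqv h2).injective ?_⟩
  have := (H67.isInducedBySemilinearPSL_iff g σ _).2 h X (cj M (fa σ X)) (by
    rw [Units.eq_mul_inv_iff_mul_eq]
    have e : (cj M (fa σ X)).val * (r⁻¹ • g.val) = (r⁻¹ • g.val) * X.val.map σ :=
      congrArg Subtype.val (inv_mul_cancel_right (M * fa σ X) M)
    rw [Matrix.mul_smul, Matrix.smul_mul] at e
    exact smul_right_injective _ (inv_ne_zero hr0) e)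
  rw [← show eqv h2 X = QuotientGroup.mk X from rfl, MulEquiv.trans_apply, MulEquiv.trans_apply,
    MulEquiv.symm_apply_apply] at this
  exact this

theorem cen_bot {G : Type*} [Group G] [Finite G] (hO : Cfsg.oddCore G = ⊥) {A : Subgroup G}
    (hA : Cfsg.IsStandardSubgroup A) (hnA : ¬ A.Normal) (h1 : A ≤ Cfsg.layer G) {c : G}
    (hc : ∀ x ∈ Cfsg.layer G, c * x * c⁻¹ = x) : c = 1 := by
  obtain ⟨g, hg⟩ : ∃ g, g ∉ normalizer (A : Set G) := by
    by_contra k
    exact hnA (normalizer_eq_top_iff.1 (eq_top_iff.2 fun g _ => not_not.1 fun e => k ⟨g, e⟩))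
  have hC : centralizer (Cfsg.layer G : Set G) ≤ centralizer (A : Set G) := centralizer_le h1
  have ho := (hA.2.1.2 g (hA.2.2.2 ▸ hg)).of_dvd_nat (card_dvd_of_le
    (H := centralizer (Cfsg.layer G : Set G)) (le_inf hC fun x hx =>
      ⟨g⁻¹ * x * g, hC (Normal.conj_mem' inferInstance x hx g), by simp [mul_assoc]⟩))
  have : c ∈ Cfsg.oddCore G := H1.le_oddCore ho fun x hx =>
    (mul_inv_eq_iff_eq_mul.1 (hc x hx)).symm
  rwa [hO, mem_bot] at this

end Red

open Red

/-- reduction to `L⟨t⟩` -/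
theorem red {G : Type*} [Group G] [Finite G] (hO : Cfsg.oddCore G = ⊥)
    (A : Subgroup G) (hA : Cfsg.IsStandardSubgroup A)
    (hnA : ¬ A.Normal)
    (hR : ∀ R : Sylow 2 ↥(centralizer (A : Set G)), IsCyclic ↥(R : Subgroup ↥(centralizer (A : Set G))))
    (t : G) (ht : orderOf t = 2) (htA : t ∈ centralizer (A : Set G))
    {F : Type*} [Field F] [Fintype F] (a : ℕ) (ha : 2 ≤ a) (hF : Fintype.card F = 2 ^ a)
    (ψ : ↥A ≃* SL(2, F)) (h1 : A ≤ Cfsg.layer G) (h2 : IsSimpleGroup ↥(Cfsg.layer G)) :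
    ∃ X : Hyp ↥(Cfsg.layer G ⊔ zpowers t) F, Nonempty (X.L ≃* ↥(Cfsg.layer G)) := by
  have hc : (2 : F) = 0 := by
    have := FiniteField.cast_card_eq_zero F
    rw [hF, Nat.cast_pow, Nat.cast_ofNat] at this
    exact pow_eq_zero_iff (by omega) |>.1 this
  have htt : t * t = 1 := by rw [← sq, ← ht, pow_orderOf_eq_one]
  have ht1 : t ≠ 1 := fun e => by simp [e] at ht
  have hAG : A ≤ Cfsg.layer G ⊔ zpowers t := h1.trans le_sup_left
  let ε : (Cfsg.layer G).subgroupOf (Cfsg.layer G ⊔ zpowers t) ≃* Cfsg.layer G :=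
    subgroupOfEquivOfLe le_sup_left
  refine ⟨⟨⟨t, mem_sup_right (mem_zpowers t)⟩,
    (Cfsg.layer G).subgroupOf _, (inclusion hAG).comp (ψ.symm : _ →* _), hc, ?_, Subtype.ext htt,
    fun e => ht1 (congrArg Subtype.val e), (inclusion_injective hAG).comp ψ.symm.injective,
    fun M => cj_eq_iff.2 (Subtype.ext (htA _ (ψ.symm M).2).symm), fun c e => ?_, fun P hP h => ?_,
    Normal.subgroupOf inferInstance _, ε.isSimpleGroup, fun M => h1 (ψ.symm M).2, fun g => ?_,
    fun g h => ?_⟩, ⟨ε⟩⟩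
  · rw [Nat.card_eq_fintype_card, hF]
    exact Nat.pow_le_pow_right two_pos ha
  · have hn : (c : G) ∈ normalizer (A : Set G) := (Cfsg.Agent.S1754.result A hA t ht htA).1
      (mem_centralizer_singleton_iff.2 (congrArg Subtype.val (cj_eq_iff.1 e)))
    obtain ⟨M, τ, h⟩ := sl_aut hc ((ψ.symm.trans (A.normalizerMonoidHom ⟨c, hn⟩)).trans ψ)
    refine ⟨M, τ, fun X => Subtype.ext ?_⟩
    rw [← h X]
    change _ = ((ψ.symm (ψ _) : A) : G)
    rw [ψ.symm_apply_apply]
    rfl
  · let j : P →* centralizer (A : Set G) :=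
      ((Cfsg.layer G ⊔ zpowers t).subtype.comp P.subtype).codRestrict _ fun x y hy => by
        have := congrArg Subtype.val (cj_eq_iff.1 ((h x x.2).2 (ψ ⟨y, hy⟩)))
        change _ * ((ψ.symm (ψ _) : A) : G) = ((ψ.symm (ψ _) : A) : G) * _ at this
        rw [ψ.symm_apply_apply] at this
        exact this.symm
    obtain ⟨R, hle⟩ := (hP.of_surjective _ j.rangeRestrict_surjective).exists_le_sylow
    have := hR R
    exact isCyclic_of_injective (j.codRestrict R fun x => hle ⟨x, rfl⟩) fun x y e =>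
      Subtype.ext (Subtype.ext (congrArg Subtype.val (congrArg Subtype.val e) :))
  · obtain ⟨y, hy, _, ⟨n, rfl⟩, e⟩ := mem_sup_of_normal_left.1 g.2
    simp only [mem_subgroupOf, coe_mul, ← e]
    rcases Int.even_or_odd' n with ⟨n, rfl | rfl⟩
    · left
      rwa [_root_.zpow_mul, zpow_two, htt, _root_.one_zpow, mul_one]
    · right
      rw [_root_.zpow_add, _root_.zpow_mul, zpow_two, htt, _root_.one_zpow, one_mul, zpow_one,
        ← mul_assoc]
      have := Normal.conj_mem inferInstance y hy t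
      rwa [inv_eq_of_mul_eq_one_right htt] at this
  · exact Subtype.ext (cen_bot hO hA hnA h1 fun x hx =>
      congrArg Subtype.val (h ⟨x, mem_sup_left hx⟩ hx))

end H25.L2B
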