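import Cfsg.Agent.Lib.L2B.NrC
import Cfsg.Agent.Lib.G2C.Bal
import Cfsg.Agent.S3212

/-! The case `q = 8` with Sylow subgroup of type `G₂(3)`. -/

set_option autoImplicit false

namespace H25.L2B

open Subgroup H4.YM H4.TL Matrix MatrixGroups

variable {G : Type*} [Group G] [Finite G] {F : Type*} [Field F] [Finite F]

namespace NrG

/-- two commuting normal subgroups of `C_L(z)` with a unique involution -/
structure Pr (L K₁ K₂ : Subgroup G) (z : G) : Prop where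
  l₁ : ∀ x ∈ K₁, x ∈ L ∧ cj x z = z
  l₂ : ∀ x ∈ K₂, x ∈ L ∧ cj x z = z
  n₁ : ∀ c ∈ L, cj c z = z → ∀ x ∈ K₁, cj c x ∈ K₁
  n₂ : ∀ c ∈ L, cj c z = z → ∀ x ∈ K₂, cj c x ∈ K₂
  comm : ∀ x ∈ K₁, ∀ y ∈ K₂, x * y = y * x
  inf : ∀ x ∈ K₁, x ∈ K₂ → x ∈ zpowers z
  u₁ : ∀ x ∈ K₁, x * x = 1 → x ∈ zpowers z
  u₂ : ∀ x ∈ K₂, x * x = 1 → x ∈ zpowers z
  w₁ : ∃ w ∈ K₁, w * w = z
  w₂ : ∃ w ∈ K₂, w * w = z
  big : ∀ H : Subgroup G, (∀ x ∈ H, x ∈ L ∧ cj x z = z) → 8 ∣ Nat.card H →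
    ∃ x ∈ K₁, ∃ y ∈ K₂, x * y ∈ H ∧ x * y ∉ zpowers z

omit [Finite G] in
theorem Pr.symm {L K₁ K₂ : Subgroup G} {z : G} (P : Pr L K₁ K₂ z) : Pr L K₂ K₁ z :=
  ⟨P.l₂, P.l₁, P.n₂, P.n₁, fun x hx y hy => (P.comm y hy x hx).symm, fun x h1 h2 => P.inf x h2 h1,
    P.u₂, P.u₁, P.w₂, P.w₁, fun H h1 h2 => by
      obtain ⟨x, hx, y, hy, h⟩ := P.big H h1 h2
      exact ⟨y, hy, x, hx, P.comm x hx y hy ▸ h⟩⟩

omit [Finite G] in
theorem memZ {z x : G} (zz : z * z = 1) : x ∈ zpowers z ↔ x = 1 ∨ x = z := by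
  refine ⟨?_, by rintro (rfl | rfl); exacts [one_mem _, mem_zpowers _]⟩
  rintro ⟨k, rfl⟩
  have : z ^ (2 : ℤ) = 1 := by rw [zpow_two, zz]
  obtain ⟨m, rfl | rfl⟩ := Int.even_or_odd' k
  · left; simp only [_root_.zpow_mul, this, _root_.one_zpow]
  · right; simp only [_root_.zpow_add, _root_.zpow_mul, this, _root_.one_zpow, zpow_one, one_mul]

omit [Finite G] in
theorem big0 {C Y H : Subgroup G} (hn : (Y.subgroupOf C).Normal) {δ : ℕ} (hδ : Odd δ)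
    (hi : Y.relIndex C = 2 * δ) (hH : H ≤ C) (h8 : 8 ∣ Nat.card H) {z : G} (hz : orderOf z = 2) :
    ∃ x ∈ H, x ∈ Y ∧ x ∉ zpowers z := by
  by_contra! hc
  have a1 : Y.relIndex H ∣ 2 * δ := by
    rw [← hi, ← relIndex_subgroupOf hH]
    exact relIndex_dvd_index_of_normal _ _
  have a2 : Nat.card (Y.subgroupOf H) ∣ 2 := by
    rw [← hz, ← Nat.card_zpowers, ← card_map_of_injective H.subtype_injective]
    exact card_dvd_of_le (by rintro _ ⟨x, hx, rfl⟩; exact hc x x.2 hx)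
  have a3 := (Y.subgroupOf H).card_mul_index
  have : 8 ∣ 2 * (2 * δ) := h8.trans (a3 ▸ mul_dvd_mul a2 a1)
  obtain ⟨k, rfl⟩ := hδ
  omega

theorem clos {V : Subgroup G} (h8 : Nat.card V = 8) {z w u : G} (hz : z ∈ V) (hw : w ∈ V)
    (hu : u ∈ V) (z1 : z ≠ 1) (w1 : w ≠ 1) (wz : w ≠ z) (wz1 : w * z ≠ 1) (u1 : u ≠ 1) (uz : u ≠ z)
    (uw : u ≠ w) (uwz : u ≠ w * z) : closure {z, w, u} = V := by
  classical
  have le : closure {z, w, u} ≤ V := (closure_le _).2 (by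
    rintro x (rfl | rfl | rfl) <;> assumption)
  refine eq_of_le_of_card_ge le ?_
  have d := card_dvd_of_le le
  have s5 : ({1, z, w, w * z, u} : Finset G).card = 5 := by
    rw [Finset.card_insert_of_notMem, Finset.card_insert_of_notMem, Finset.card_insert_of_notMem,
      Finset.card_pair uwz.symm] <;>
      simp [z1, w1, z1.symm, w1.symm, wz.symm, wz1.symm, u1.symm, uz.symm, uw.symm]
  have m1 : z ∈ closure {z, w, u} := subset_closure (by simp)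
  have m2 : w ∈ closure {z, w, u} := subset_closure (by simp)
  have m3 : u ∈ closure {z, w, u} := subset_closure (by simp)
  have h5 : 5 ≤ Nat.card (closure {z, w, u} : Subgroup G) := by
    rw [← s5, ← Set.ncard_coe_finset]
    refine Set.ncard_le_ncard (t := ((closure {z, w, u} : Subgroup G) : Set G)) ?_ (Set.toFinite _)
    intro x hx
    simp only [Finset.coe_insert, Finset.coe_singleton, Set.mem_insert_iff,
      Set.mem_singleton_iff] at hx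
    rcases hx with rfl | rfl | rfl | rfl | rfl
    exacts [one_mem _, m1, m2, mul_mem m2 m1, m3]
  rw [h8] at d ⊢
  obtain ⟨i, hi, e⟩ := (Nat.dvd_prime_pow Nat.prime_two (m := 3)).1 d
  rw [e] at h5 ⊢
  interval_cases i <;> omega

theorem three {X : Fr G F} {S : Subgroup G} {e : ℕ} (D : X.NS X.V e S) {z : G} (hz : z ∈ X.V)
    (z1 : z ≠ 1) {K₁ K₂ : Subgroup G} (P : Pr X.L K₁ K₂ z) {H : Type*} [Group H] (f : H →* G)
    (hK : ∀ x, x ∈ K₁ ↔ ∃ M, f M = x) (perf : commutator H = ⊤)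
    (nrm : ∀ N : Subgroup H, N.Normal → (∀ x ∈ N, f x * f x = 1) ∨ N = ⊤)
    (h8 : 8 ∣ Nat.card K₁) : False := by
  obtain ⟨a0, ha0⟩ := X.mem_V.1 hz
  have a00 : a0 ≠ 0 := fun h => z1 (by rw [ha0, h, X.v_zero])
  have zz : z * z = 1 := ha0 ▸ X.v_sq a0
  have tz : cj X.t z = z := ha0 ▸ X.t_v a0
  have tt : ∀ x, cj X.t (cj X.t x) = x := fun x => by rw [← mul_cj, X.tt, one_cj]
  have fK : ∀ M, f M ∈ K₁ := fun M => (hK _).2 ⟨M, rfl⟩
  have cZ : ∀ c x, cj c z = z → x ∈ zpowers z → cj c x = x := fun c x hc hx => by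
    rcases (memZ zz).1 hx with rfl | rfl
    exacts [cj_one _, hc]
  have tZ : ∀ x, cj X.t x ∈ zpowers z → x ∈ zpowers z := fun x hx => by
    rwa [← tt x, cZ _ _ tz hx]
  have tC : ∀ c, c ∈ X.L ∧ cj c z = z → cj X.t c ∈ X.L ∧ cj (cj X.t c) z = z := fun c hc =>
    ⟨(X.L_cj _).2 hc.1, by have := cj_cj X.t c z; rwa [hc.2, tz] at this⟩
  obtain ⟨w, hw, ww⟩ := P.w₁
  have wZ : w ∉ zpowers z := fun h => z1 (by
    rcases (memZ zz).1 h with rfl | rfl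
    · rw [← ww, one_mul]
    · rw [← ww, zz])
  obtain ⟨w', rfl⟩ := (hK w).1 hw
  have nperf : ¬ ∀ x y, f (x * y * x⁻¹ * y⁻¹) ∈ zpowers z := fun h => wZ (by
    have : commutator H ≤ (zpowers z).comap f := commutator_le.2 fun x _ y _ => h x y
    exact this (perf ▸ mem_top w'))
  have nr : ∀ N : Subgroup H, N.Normal → (∀ x ∈ N, f x ∈ zpowers z) ∨ ∀ x, x ∈ N := fun N hN =>
    (nrm N hN).imp (fun h x hx => P.u₁ _ (fK x) (h x hx)) fun h x => h.ge (mem_top x)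
  have alt : ∀ N : Subgroup G, (∀ c ∈ X.L, cj c z = z → ∀ x ∈ N, cj c x ∈ N) →
      (∀ x ∈ K₁, cj X.t x ∈ N → x ∈ zpowers z) ∨ ∀ x ∈ K₁, cj X.t x ∈ N := fun N hN => by
    refine (nr (N.comap ((MulAut.conj X.t).toMonoidHom.comp f)) ⟨fun x hx k => ?_⟩).imp
      (fun h x hx h' => ?_) fun h x hx => ?_
    · have := tC _ (P.l₁ _ (fK k))
      have := hN _ this.1 this.2 _ hx
      change cj (cj X.t (f k)) (cj X.t (f x)) ∈ N at this
      change cj X.t (f (k * x * k⁻¹)) ∈ N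
      rwa [cj_cj, cj.eq_1 (f k), ← map_inv, ← map_mul, ← map_mul] at this
    · obtain ⟨M, rfl⟩ := (hK x).1 hx
      exact h M h'
    · obtain ⟨M, rfl⟩ := (hK x).1 hx
      exact h M
  obtain ⟨Y, hY⟩ := GoodAux.exists_W fun x hx y hy => (P.comm x hx y hy).symm
  have s1 : ∀ x ∈ K₁, cj X.t x ∈ Y := by
    refine (alt Y fun c h1 h2 x hx => ?_).resolve_left fun h => ?_
    · obtain ⟨x', hx', y, hy, rfl⟩ := (hY x).1 hx
      exact (hY _).2 ⟨_, P.n₁ c h1 h2 x' hx', _, P.n₂ c h1 h2 y hy, cj_mul ..⟩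
    · obtain ⟨x, hx, y, hy, h1, h2⟩ := P.big (cm X.t K₁) (fun x hx => by
        rw [mem_cm, X.tinv] at hx
        exact tt x ▸ tC _ (P.l₁ _ hx)) (by rwa [card_cm])
      rw [mem_cm, X.tinv] at h1
      exact h2 (tZ _ (h _ h1 ((tt _).symm ▸ (hY _).2 ⟨x, hx, y, hy, rfl⟩)))
  rcases alt K₂ P.n₂ with b2 | b2
  swap
  · -- `K₁ ^ t ≤ K₂`
    let ψ : H →* G := MonoidHom.mk' (fun x => f x * cj X.t (f x)) fun x y => by
      rw [map_mul, cj_mul, mul_assoc, mul_assoc, ← mul_assoc (f y), P.comm _ (fK y) _ (b2 _ (fK x)),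
        mul_assoc]
    have eψ : ∀ x, ψ x = f x * cj X.t (f x) := fun _ => rfl
    have ψt : ∀ x, cj (ψ x) X.t = X.t := fun x => cj_comm.1 (by
      rw [eψ, cj_mul, tt, P.comm _ (fK x) _ (b2 _ (fK x))])
    have ψN : ∀ x, ψ x ∈ X.N1 := fun x => X.ti (ψt x) a00 (by
      rw [← ha0, eψ, mul_cj, (P.l₂ _ (b2 _ (fK x))).2, (P.l₁ _ (fK x)).2]; exact hz)
    have hE : ∀ x, ψ x ∈ X.E := by
      refine (nr (X.E.comap ψ) ⟨fun x hx k => ?_⟩).resolve_left fun h => wZ (h _ ?_)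
      · change ψ (k * x * k⁻¹) ∈ X.E
        rw [map_mul, map_mul, map_inv]
        change cj (ψ k) (ψ x) ∈ X.E
        obtain ⟨n1, n2⟩ := X.mem_N1.1 (ψN k)
        obtain ⟨a, h | h⟩ := X.mem_E.1 hx <;> rw [h]
        · exact X.iE.le (n2 a)
        · rw [cj_mul, n1]
          exact mul_mem X.iE.mem (X.iE.le (n2 a))
      · have s : ψ w' ^ 2 ^ 1 = 1 := by
          rw [pow_one, pow_two, ← map_mul, eψ, map_mul, ww, tz, zz]
        exact D.cenE_two (ψt _) (fun a => D.toNE.two_N1 (ψN _) (j := 1)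
          (fun u _ => by rw [s, one_cj]) _ (X.v_mem_V a)) s
    refine nperf fun x y => P.inf _ (fK _) ?_
    have : ψ (x * y * x⁻¹ * y⁻¹) = 1 := by
      rw [map_mul, map_mul, map_mul, map_inv, map_inv, mul_inv_eq_one]
      exact X.E_comm (hE x) (hE y)
    rw [eψ, mul_eq_one_iff_eq_inv] at this
    exact this ▸ inv_mem (b2 _ (fK _))
  have b1 : ∀ x ∈ K₁, cj X.t x ∈ K₁ := by
    refine (alt K₁ P.n₁).resolve_left fun b1 => nperf fun x y => tZ _ ?_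
    obtain ⟨k, hk, l, hl, e⟩ := (hY _).1 (s1 _ (fK y))
    have c := tC _ (P.l₁ _ (fK x))
    have key : ∀ N : Subgroup G, (∀ x ∈ N, x ∈ X.L ∧ cj x z = z) →
        (∀ c ∈ X.L, cj c z = z → ∀ x ∈ N, cj c x ∈ N) →
        (∀ x ∈ K₁, cj X.t x ∈ N → x ∈ zpowers z) → ∀ k ∈ N,
        cj (cj X.t (f x)) k * k⁻¹ ∈ zpowers z := fun N h1 h2 h3 k hk => by
      have c' := tC _ (h1 _ hk)
      refine tZ _ (h3 _ ?_ ?_)
      · have : cj X.t (cj (cj X.t (f x)) k * k⁻¹) = f x * cj (cj X.t k) (f x)⁻¹ := by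
          rw [cj_mul, ← cj_cj, tt, cj_inv]
          simp only [cj.eq_1 (f x), cj.eq_1 (cj X.t k), mul_assoc]
        exact this ▸ mul_mem (fK x) (P.n₁ _ c'.1 c'.2 _ (inv_mem (fK x)))
      · rw [tt]
        exact mul_mem (h2 _ c.1 c.2 _ hk) (inv_mem hk)
    have : cj X.t (f (x * y * x⁻¹ * y⁻¹)) = cj (cj X.t (f x)) k * k⁻¹ *
        cj k (cj (cj X.t (f x)) l * l⁻¹) := by
      rw [map_mul, map_mul, map_mul, map_inv, map_inv, cj_mul, cj_mul, cj_mul, cj_inv, cj_inv, e]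
      generalize cj X.t (f x) = p
      simp only [cj]
      group
    rw [this, cZ _ _ (P.l₁ _ hk).2 (key _ P.l₂ P.n₂ b2 l hl)]
    exact mul_mem (key _ P.l₁ P.n₁ b1 k hk) (key _ P.l₂ P.n₂ b2 l hl)
  have cen : ∀ x ∈ K₁, (∀ k ∈ K₁, k * x = x * k) → x ∈ zpowers z := fun x hx hc => by
    obtain ⟨M, rfl⟩ := (hK x).1 hx
    refine ((nr ((centralizer (K₁ : Set G)).comap f) ⟨fun x hx k => ?_⟩).resolve_right
      fun h => nperf fun x y => ?_) M hc
    · change f (k * x * k⁻¹) ∈ centralizer (K₁ : Set G)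
      rw [map_mul, map_mul, map_inv, hx _ (fK k), mul_inv_cancel_right]
      exact hx
    · rw [map_mul, map_mul, map_mul, map_inv, map_inv, h y _ (fK x), mul_inv_cancel_right,
        mul_inv_cancel]
      exact one_mem _
  have mv : ∀ x ∈ K₁, ∀ y ∈ K₂, x * y ∈ X.V → x * y ∉ zpowers z → cj X.t x = x * z := by
    intro x hx y hy hv hn
    obtain ⟨a, ha⟩ := X.mem_V.1 hv
    have c := P.comm x hx y hy
    have s : x * x * (y * y) = 1 := by
      rw [← Commute.mul_mul_mul_comm (show Commute y x from c.symm), ha, X.v_sq]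
    have xx : x * x = z := by
      refine ((memZ zz).1 (P.inf _ (mul_mem hx hx) ?_)).resolve_left fun h => hn ?_
      · exact eq_inv_of_mul_eq_one_left s ▸ inv_mem (mul_mem hy hy)
      · rw [h, one_mul] at s
        exact mul_mem (P.u₁ x hx h) (P.u₂ y hy s)
    have e1 : x⁻¹ * cj X.t x = y * (cj X.t y)⁻¹ := by
      have : cj X.t x * cj X.t y = x * y := by rw [← cj_mul, ha, X.t_v]
      rw [eq_mul_inv_iff_mul_eq, mul_assoc, this, inv_mul_cancel_left]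
    have := cen _ (mul_mem (inv_mem hx) (b1 x hx)) fun k hk => by
      have : k * cj X.t y = cj X.t y * k := by
        rw [← tt k, ← cj_mul, P.comm _ (b1 k hk) y hy, cj_mul]
      rw [e1, ← mul_assoc, P.comm k hk y hy, mul_assoc, mul_assoc,
        (show Commute k (cj X.t y) from this).inv_right.eq]
    rcases (memZ zz).1 this with h | h
    · refine absurd (xx ▸ D.toNE.sq_of_cen X.Ω_t (cj_comm.1 (inv_mul_eq_one.1 h).symm) (j := 2) ?_) z1
      rw [show x ^ 2 ^ 2 = x * x * (x * x) by simp only [pow_succ, pow_zero, one_mul, mul_assoc,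
        show 2 ^ 2 = 1 + 1 + 1 + 1 from rfl], xx, zz]
    · exact inv_mul_eq_iff_eq_mul.1 h
  have VV : ∀ x ∈ X.V, ∀ y ∈ X.V, cj x y = y := fun x hx y hy => X.E_comm (X.iE.le hx) (X.iE.le hy)
  have c8 := D.toNE.card8
  obtain ⟨x, hx, y, hy, hv, hn⟩ := P.big X.V
    (fun x hx => ⟨X.A0_le_L (X.V_le_A0 hx), VV x hx z hz⟩) (by rw [c8])
  classical
  obtain ⟨u, hu, nu⟩ := exists_notMem (K := X.V) (s := {1, z, x * y, x * y * z})
    (by rw [c8]; exact Finset.card_le_four.trans_lt (by norm_num))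
  simp only [Finset.mem_insert, Finset.mem_singleton, not_or] at nu
  have sq : x * y * (x * y) = 1 := X.E_sq (X.iE.le hv)
  have cl := clos c8 hz hv hu z1 (fun h => hn (h ▸ one_mem _)) (fun h => hn (h ▸ mem_zpowers _))
    (fun h => hn (eq_inv_of_mul_eq_one_left h ▸ inv_mem (mem_zpowers _))) nu.1 nu.2.1 nu.2.2.1 nu.2.2.2
  obtain ⟨m, -, mL, mz, mw, -⟩ := D.toNE.basis cl (a' := z) (b' := u) (c' := x * y)
    (by rw [Set.pair_comm u]; exact cl)
  have hx' := P.n₁ m mL mz x hx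
  have hy' := P.n₂ m mL mz y hy
  rw [cj_mul] at mw
  have e1 := mv x hx y hy hv hn
  have e2 := mv _ hx' _ hy' (mw ▸ hu) (mw ▸ fun h => ((memZ zz).1 h).elim nu.1 nu.2.1)
  have ep : x * cj m x * (y * cj m y) = x * y * u := by
    rw [← mw, mul_assoc, ← mul_assoc (cj m x), P.comm _ hx' y hy]
    simp only [mul_assoc]
  have e3 := mv _ (mul_mem hx hx') _ (mul_mem hy hy') (ep ▸ mul_mem hv hu) (ep ▸ fun h => by
    have i : (x * y)⁻¹ = x * y := inv_eq_of_mul_eq_one_right sq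
    rcases (memZ zz).1 h with h | h
    · exact nu.2.2.1 (by rw [← i]; exact eq_inv_of_mul_eq_one_right h)
    · exact nu.2.2.2 (by rw [← h, ← mul_assoc, sq, one_mul]))
  rw [cj_mul, e1, e2, mul_assoc, mul_assoc, mul_left_cancel_iff, ← mul_assoc,
    ← cj_eq_iff.1 (P.l₁ _ hx').2, mul_right_cancel_iff, mul_eq_left] at e3
  exact z1 e3

theorem sl3 {X : Fr G F} {S : Subgroup G} {e : ℕ} (D : X.NS X.V e S) {z : G} (hz : z ∈ X.V)
    (z1 : z ≠ 1) {L₁ : Subgroup X.L} {K₂ : Subgroup G} (P : Pr X.L (L₁.map X.L.subtype) K₂ z)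
    {E : Type} [Field E] [Fintype E] (ho : Odd (Fintype.card E)) (e₁ : L₁ ≃* SL(2, E)) :
    Fintype.card E = 3 := by
  by_contra h3
  have h2 := H10.two_le_card_field (F := E)
  rw [← Nat.card_eq_fintype_card] at ho h3
  obtain ⟨k, hk⟩ := ho
  have h4 : 4 ≤ Nat.card E := by omega
  have perf := Bas.perf h4
  refine three D hz z1 P (X.L.subtype.comp (L₁.subtype.comp e₁.symm.toMonoidHom)) (fun x => ?_) perf
    (fun N hN => ?_) ?_
  · constructor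
    · rintro ⟨y, hy, rfl⟩
      exact ⟨e₁ ⟨y, hy⟩, by simp⟩
    · rintro ⟨M, rfl⟩
      exact ⟨_, (e₁.symm M).2, rfl⟩
  · have : IsSimpleGroup PSL(2, E) := Matrix.ProjectiveSpecialLinearGroup.rank_two_simple h4
    refine (hN.map (QuotientGroup.mk' (center SL(2, E)))
      (QuotientGroup.mk'_surjective _)).eq_bot_or_eq_top.imp (fun h y hy => ?_) fun h => ?_
    · rw [Subgroup.map_eq_bot_iff, QuotientGroup.ker_mk'] at h
      rw [← map_mul]
      rcases H64.SL2.mem_center_iff'.1 (h hy) with rfl | rfl <;> simp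
    · have key : ∀ x : SL(2, E), ∃ n ∈ N, ∃ c ∈ center SL(2, E), x = n * c := fun x => by
        obtain ⟨y, hy, e⟩ := h.ge (mem_top (QuotientGroup.mk' _ x))
        exact ⟨y, hy, _, QuotientGroup.eq.1 e, by group⟩
      refine top_le_iff.1 (perf ▸ commutator_le.2 fun x _ y _ => ?_)
      obtain ⟨n, hn, c, hc, rfl⟩ := key x
      have : n * c * y * (n * c)⁻¹ * y⁻¹ = n * (y * n⁻¹ * y⁻¹) := by
        rw [mul_assoc n c, ← mem_center_iff.1 hc y]
        group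
      rw [commutatorElement_def, this]
      exact mul_mem hn (hN.conj_mem _ (inv_mem hn) y)
  · rw [card_map_of_injective X.L.subtype_injective, Nat.card_congr e₁.toEquiv, H10.card_SL_two, hk,
      Nat.add_sub_cancel]
    obtain ⟨m, hm⟩ := Nat.even_mul_succ_self k
    exact ⟨(2 * k + 1) * m, by linear_combination 4 * (2 * k + 1) * hm⟩

end NrG

open NrG H45 H69 H23.GW H13.G2 Cfsg in
theorem Fr.NS.g2 {X : Fr G F} {S : Subgroup G} {e : ℕ} (D : X.NS X.V e S) {a b u v : G}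
    (h : H81.G2S 2 a b u v) (hS : h.S = S) (h1 : One X.L) : Eight X.L := by
  subst hS
  have sl := D.sylS.le
  have hz : h.z ∈ X.V := by
    obtain ⟨w, hw, w1, hc⟩ := H72.exists_mem_center_of_normal D.sylS.pg D.AS (fun g hg w hw => by
      obtain ⟨c, rfl⟩ := X.mem_V.1 hw
      exact D.NV (D.SM hg) c) (fun e => by
        have := D.toNE.card8
        rw [e, card_bot] at this
        omega)
    exact (h.center (D.AS hw) fun t ht => (hc t ht).symm).resolve_left w1 ▸ hw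
  have hb : b ∈ h.S :=
    (congrArg (· ∈ h.S) h.va).mp (mul_mem (mul_mem h.v_mem h.a_mem) (inv_mem h.v_mem))
  have h' : H81.G2S 2 (⟨a, sl h.a_mem⟩ : X.L) ⟨b, sl hb⟩ ⟨u, sl h.u_mem⟩ ⟨v, sl h.v_mem⟩ :=
    H81.G2S.comap X.L.subtype X.L.subtype_injective h
  have mS : h'.S.map X.L.subtype = h.S := h'.map_S h
  have mz : (h'.z : G) = h.z := h'.map_z (f := X.L.subtype) h
  have := X.simple
  have hS' : H45.Syl 2 h'.S ⊤ := by
    have := (syl_iff.1 D.sylS).subgroupOf_top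
    rwa [← mS, subgroupOf, comap_map_eq_self_of_injective X.L.subtype_injective] at this
  have c : ∀ x y : X.L, orderOf x = 2 → orderOf y = 2 → IsConj x y := fun x y hx hy => by
    have k : ∀ x : X.L, orderOf x = 2 → (x : G) * x = 1 ∧ (x : G) ≠ 1 := fun x hx =>
      ⟨by rw [← coe_mul, ← pow_two, ← hx, pow_orderOf_eq_one, coe_one], fun e => by
        rw [show x = 1 from Subtype.ext e, orderOf_one] at hx; omega⟩
    obtain ⟨g, hg, e⟩ := h1 x x.2 (k x hx).1 (k x hx).2 y y.2 (k y hy).1 (k y hy).2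
    exact isConj_iff.2 ⟨⟨g, hg⟩, Subtype.ext e⟩
  have H : Hy h' := ⟨inferInstance, hS', c, fun K _ _ _ _ => core _ K rfl⟩
  have h0 := H.core
  obtain ⟨L₁, L₂, s⟩ := H.qx_cent.ls
  obtain ⟨n₁, -, F₁, _, _, o₁, π₁, x₁, s₁, k₁, -⟩ := s.s₁
  obtain ⟨n₂, -, F₂, _, _, o₂, π₂, x₂, s₂, k₂, -⟩ := s.s₂
  obtain ⟨δ, hδ, hi⟩ := s.idx
  let e₁ := MulEquiv.ofBijective π₁ ⟨(injective_iff_map_eq_one _).2 fun l d =>
    Subtype.ext (mem_bot.1 (h0 ▸ (k₁ l).1 d)), s₁⟩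
  let e₂ := MulEquiv.ofBijective π₂ ⟨(injective_iff_map_eq_one _).2 fun l d =>
    Subtype.ext (mem_bot.1 (h0 ▸ (k₂ l).1 d)), s₂⟩
  have cm : ∀ x ∈ L₁, ∀ y ∈ L₂, x * y = y * x := fun x hx y hy =>
    commutatorElement_eq_one_iff_mul_comm.1
      (mem_bot.1 (h0 ▸ s.comm (commutator_mem_commutator hx hy)))
  have inf : L₁ ⊓ L₂ = zpowers h'.z := by rw [s.inf, h0, bot_sup_eq]
  have mZ : ∀ x : X.L, (x : G) ∈ zpowers h.z ↔ x ∈ zpowers h'.z := fun x => by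
    rw [memZ h.zz, memZ h'.zz, ← mz, OneMemClass.coe_eq_one, Subtype.coe_inj]
  have mC : ∀ x : X.L, x ∈ 𝐂[h'.z] ↔ cj (x : G) h.z = h.z := fun x => by
    rw [← mz, H4.YM.cj_eq_iff, mem_centralizer_singleton_iff, ← coe_mul, ← coe_mul, Subtype.coe_inj]
  have ll : ∀ K : Subgroup X.L, K ⊴ 𝐂[h'.z] →
      (∀ x ∈ K.map X.L.subtype, x ∈ X.L ∧ cj x h.z = h.z) ∧
      ∀ c ∈ X.L, cj c h.z = h.z → ∀ x ∈ K.map X.L.subtype, cj c x ∈ K.map X.L.subtype :=
    fun K n => ⟨by rintro _ ⟨x, hx, rfl⟩; exact ⟨x.2, (mC x).1 (n.le hx)⟩, by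
      rintro c hc h2 _ ⟨x, hx, rfl⟩
      exact ⟨_, n.conj_mem ((mC ⟨c, hc⟩).2 h2) hx, rfl⟩⟩
  have uu : ∀ (K : Subgroup X.L) (E : Type) [Field E] [Fintype E], Odd (Fintype.card E) →
      (K ≃* SL(2, E)) → h'.z ∈ K → ∀ x ∈ K.map X.L.subtype, x * x = 1 → x ∈ zpowers h.z := by
    rintro K E _ _ o e hz _ ⟨x, hx, rfl⟩ xx
    have k : ∀ y : K, (y : X.L) * y = 1 → y = 1 ∨ y = e.symm (-1) := fun y yy =>
      (H64.SL2.mem_center_iff'.1 (H64.SL2.mem_center_of_mul_self_eq_one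
        (H64.SL2.two_ne_zero_of_odd o) (g := e y)
        (by rw [← map_mul, show y * y = 1 from Subtype.ext yy, map_one]))).imp
        (fun h => e.map_eq_one_iff.1 h) fun h => by rw [← h, e.symm_apply_apply]
    have k1 := (k ⟨_, hz⟩ h'.zz).resolve_left fun e => h'.z_ne (congrArg Subtype.val e)
    refine (mZ x).2 ((memZ h'.zz).2 ((k ⟨x, hx⟩ (Subtype.ext xx)).imp
      (congrArg Subtype.val) fun h => congrArg Subtype.val (h.trans k1.symm)))
  have zm : h'.z ∈ L₁ ⊓ L₂ := inf ▸ mem_zpowers _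
  have P : Pr X.L (L₁.map X.L.subtype) (L₂.map X.L.subtype) h.z := by
    refine ⟨(ll _ n₁).1, (ll _ n₂).1, (ll _ n₁).2, (ll _ n₂).2, ?_, ?_, uu _ _ o₁ e₁ zm.1,
      uu _ _ o₂ e₂ zm.2, ⟨_, ⟨_, x₁, rfl⟩, mz ▸ congrArg Subtype.val h'.ww⟩,
      ⟨_, ⟨_, x₂, rfl⟩, mz ▸ congrArg Subtype.val (h'.swap.ww.trans h'.swap_z)⟩, fun K hK h8 => ?_⟩
    · rintro _ ⟨x, hx, rfl⟩ _ ⟨y, hy, rfl⟩
      exact congrArg Subtype.val (cm x hx y hy)
    · rintro _ ⟨x, hx, rfl⟩ ⟨y, hy, e⟩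
      obtain rfl : y = x := Subtype.ext e
      exact (mZ y).2 (inf ▸ ⟨hx, hy⟩)
    · obtain ⟨p, h1, h2, h3⟩ := big0 (H := K.subgroupOf X.L) (n₁.sup n₂).normal_subgroupOf hδ hi
        (fun x hx => (mC x).2 (hK _ hx).2)
        (by rwa [Nat.card_congr (subgroupOfEquivOfLe fun x hx => (hK x hx).1).toEquiv]) (oz h')
      obtain ⟨W, hW⟩ := GoodAux.exists_W fun x hx y hy => (cm x hx y hy).symm
      obtain ⟨x, hx, y, hy, rfl⟩ := (hW p).1 ((sup_le
        (fun x hx => (hW x).2 ⟨x, hx, 1, one_mem _, (mul_one x).symm⟩)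
        (fun x hx => (hW x).2 ⟨1, one_mem _, x, hx, (one_mul x).symm⟩) : L₁ ⊔ L₂ ≤ W) h2)
      exact ⟨_, ⟨x, hx, rfl⟩, _, ⟨y, hy, rfl⟩, h1, fun h => h3 ((mZ _).1 h)⟩
  have q₁ := sl3 D hz h.z_ne P o₁ e₁
  have q₂ := sl3 D hz h.z_ne P.symm o₂ e₂
  obtain ⟨-, -, -, d | d | ⟨-, -, -, N, hN, i, ⟨d⟩⟩ | ⟨-, -, N, hN, i, ⟨q, d⟩ | ⟨q, d⟩⟩⟩ :=
    Cfsg.Agent.S3212.result L₁ L₂ e₁ e₂ cm h'.z (oz h') inf (sup_le n₁.le n₂.le)
      (map_subtype_eq_bot_iff.1 ((H73.GW.od_eq _).symm.trans h0)) δ hδ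
      (Or.inl ⟨(n₁.sup n₂).normal_subgroupOf, hi⟩)
  · refine absurd ⟨mem_top _, oz h', ?_⟩ H.not_tq
    rw [top_inf_eq, sup_comm, H73.GW.od_eq, ← d]
    refine sup_le_sup_left ?_ _
    rcases (inferInstance : (oddCore X.L).Normal).eq_bot_or_eq_top with e | e
    · exact e ▸ bot_le
    · exact absurd (e.ge (mem_top _)) (not_mem_of_odd H1.odd_card_oddCore (oz h'))
  · exact absurd n₁.normal_subgroupOf d.2.1
  · obtain rfl : N = ⊤ := hN.eq_bot_or_eq_top.resolve_left fun d => by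
      rw [d, index_bot] at i
      exact not_mem_of_odd (K := ⊤) (by rwa [card_top, i]) (oz h') (mem_top _)
    exact ⟨F₁, _, _, q₁, ⟨topEquiv.symm.trans d⟩⟩
  · rw [q₁, q₂] at q; omega
  · rw [q₁, q₂] at q; omega

end H25.L2B
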