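import Cfsg.Agent.Lib.L2B.Defs

/-!
The case `q = 8` without translations.
-/

set_option autoImplicit false

namespace H25.L2B

open Subgroup H4.YM H4.TL Matrix MatrixGroups

variable {G : Type*} [Group G] {F : Type*} [Field F]

/-- `a ↦ a ^ e` maps `A` onto `V` with kernel the squares -/
structure Fr.NE (X : Fr G F) (A : Subgroup G) (e : ℕ) : Prop extends X.NR A where
  tL : X.t ∉ X.L
  eV : ∀ a ∈ A, a ^ e ∈ X.V
  eS : ∀ u ∈ X.V, ∃ a ∈ A, a ^ e = u
  eK : ∀ a ∈ A, a ^ e = 1 → ∃ α ∈ A, α * α = a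

/-- `S` is a Sylow subgroup of `L` -/
structure Fr.NS (X : Fr G F) (A : Subgroup G) (e : ℕ) (S : Subgroup G) : Prop extends X.NE A e where
  sylS : Syl S X.L
  AS : A ≤ S
  SM : S ≤ normalizer (adj A X.t : Set G)
  card : Nat.card S = 8 * Nat.card A
  cls : ∀ D : Subgroup G, IsPGroup 2 D → (∀ x ∈ D, cj X.t x ∈ D) → ∀ z ∈ X.V, z ≠ 1 →
    (∀ x ∈ D, cj x z = z) → D ≤ normalizer (adj A X.t : Set G)

/-- all involutions of `L` are conjugate -/
def One (L : Subgroup G) : Prop :=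
  ∀ i ∈ L, i * i = 1 → i ≠ 1 → ∀ j ∈ L, j * j = 1 → j ≠ 1 → ∃ g ∈ L, cj g i = j

/-- generators of the wreath product of `Z₂` by a four-group -/
structure WrD (S : Subgroup G) (e x y : G) : Prop where
  ee : e * e = 1
  xx : x * x = 1
  yy : y * y = 1
  xy : x * y = y * x
  c1 : e * cj x e = cj x e * e
  c2 : e * cj y e = cj y e * e
  c3 : e * cj (x * y) e = cj (x * y) e * e
  gen : closure {e, x, y} = S

theorem defs8_auto : True := by
  have := @One.eq_1.{0}
  trivial

end H25.L2B
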